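import Cfsg.Agent.Lib.Fi22Loc.Exists.Frame

/-!
The centraliser of the central element acts on the core modulo its centre by monomial block matrices.
-/

set_option autoImplicit false
set_option linter.unusedSectionVars false

namespace CfsgLib.Fi22Loc

open CfsgLib.U6Three (V2 SL23 det2 app2 app2_exists app2_add app2_one)

universe u

theorem v2_decomp : ∀ a : V2, a = ((a.1.val • ((1, 0) : V2)) + (a.2.val • ((0, 1) : V2))) := by decide +kernel

theorem app2_map (f : V2 → V2) (ha : ∀ a b, f (a + b) = f a + f b) (hd : ∀ a b, det2 (f a) (f b) = det2 a b) :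
    ∃ g : SL23, ∀ a, app2 g a = f a := by
  obtain ⟨g, g1, g2⟩ := app2_exists (f (1, 0)) (f (0, 1)) (by rw [hd]; decide)
  refine ⟨g, fun a => ?_⟩
  let A : V2 →+ V2 := AddMonoidHom.mk' (app2 g) (app2_add g)
  let F : V2 →+ V2 := AddMonoidHom.mk' f ha
  show A a = F a
  rw [v2_decomp a, map_add, map_add, map_nsmul, map_nsmul, map_nsmul, map_nsmul]
  exact congrArg₂ (fun x y => a.1.val • x + a.2.val • y) g1 g2

theorem appB_signs (ε : Fin 3 → Bool) (v : V6) (i : Fin 3) :
    appB (dg fun l => if ε l then -1 else 1) v i = if ε i then -v i else v i := by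
  rw [appB_dg]
  cases ε i
  · simp [app2_one]
  · simp only [if_pos]
    exact (by decide +kernel : ∀ a : V2, app2 (-1) a = -a) _

namespace Pre.Fr

variable {G : Type u} [Group G] [Finite G] {P : Pre G} (F : P.Fr)

/-- Acting on the core modulo the centre. -/
def Img (h : G) (b : Bk) : Prop := ∀ v, ∃ k, h * F.q v * h⁻¹ = P.zz k * F.q (appB b v)

theorem img_unique {h : G} {b b' : Bk} (e : F.Img h b) (e' : F.Img h b') : b = b' :=
  appB_inj fun v => by
    obtain ⟨k, hk⟩ := e v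
    obtain ⟨l, hl⟩ := e' v
    exact (F.el_inj (hk.symm.trans hl)).2

theorem img_one : F.Img 1 1 := fun v => ⟨0, by rw [appB_one, P.zz_zero]; group⟩

theorem img_mul {h h' : G} {b b' : Bk} (hz : Commute h P.z) (e : F.Img h b) (e' : F.Img h' b') :
    F.Img (h * h') (b * b') := fun v => by
  obtain ⟨k, hk⟩ := e' v
  obtain ⟨l, hl⟩ := e (appB b' v)
  refine ⟨k + l, ?_⟩
  calc h * h' * F.q v * (h * h')⁻¹ = h * (h' * F.q v * h'⁻¹) * h⁻¹ := by group
    _ = h * P.zz k * F.q (appB b' v) * h⁻¹ := by rw [hk]; group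
    _ = P.zz k * (h * F.q (appB b' v) * h⁻¹) := by rw [P.zz_swap hz]; group
    _ = _ := by rw [hl, appB_mul, P.zz_add]; group

theorem img_q (u : V6) : F.Img (F.q u) 1 := fun v => ⟨om u v, by rw [F.q_swap, appB_one]⟩

theorem img_zz (k : ZMod 3) : F.Img (P.zz k) 1 := fun v => ⟨0, by
  rw [appB_one, P.zz_zero, one_mul, ← P.zz_swap (F.q_z v), mul_inv_cancel_right]⟩

theorem img_Q {x : G} (hx : x ∈ P.Q) : F.Img x 1 := by
  obtain ⟨k, v, rfl⟩ := F.el_surj hx
  have hc : Commute (P.zz k) P.z := (Commute.refl P.z).pow_left _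
  have := F.img_mul hc (F.img_zz k) (F.img_q v)
  rwa [mul_one] at this

/-- Acting trivially modulo the centre puts an element in the core. -/
theorem img_ker {h : G} (hz : Commute h P.z) (e : F.Img h 1) : h ∈ P.Q := by
  choose f hf using e
  have hf' : ∀ v, h * F.q v * h⁻¹ = P.zz (f v) * F.q v := fun v => by rw [hf, appB_one]
  have fadd : ∀ v w, f (v + w) = f v + f w := fun v w => by
    have e1 : h * (F.q v * F.q w) * h⁻¹ = P.zz (f v + f w) * (F.q v * F.q w) := by
      calc h * (F.q v * F.q w) * h⁻¹ = (h * F.q v * h⁻¹) * (h * F.q w * h⁻¹) := by group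
        _ = P.zz (f v) * (F.q v * P.zz (f w)) * F.q w := by rw [hf', hf']; group
        _ = _ := by rw [P.zz_swap (F.q_z v), P.zz_add]; group
    rw [F.q_mul] at e1
    have e2 : h * (P.zz (-om v w) * F.q (v + w)) * h⁻¹ = P.zz (-om v w) * (P.zz (f (v + w)) * F.q (v + w)) := by
      rw [← hf', ← mul_assoc h, P.zz_swap hz]; group
    rw [e2, ← mul_assoc, ← P.zz_add, ← mul_assoc, ← P.zz_add] at e1
    have := P.zz_inj (mul_right_cancel e1)
    linear_combination this
  let u : V6 := fun i => (f (emb i (0, 1)), -f (emb i (1, 0)))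
  let Φ : V6 →+ ZMod 3 := AddMonoidHom.mk' f fadd
  have hu : ∀ v, f v = om u v := by
    have one : ∀ i a, f (emb i a) = det2 (u i) a := fun i a => by
      let E : V2 →+ V6 := AddMonoidHom.mk' (emb i) (emb_add i)
      show Φ (E a) = _
      conv_lhs => rw [v2_decomp a, map_add, map_add, map_nsmul, map_nsmul, map_nsmul, map_nsmul]
      show a.1.val • f (emb i (1, 0)) + a.2.val • f (emb i (0, 1)) = _
      simp only [u, det2, nsmul_eq_mul, ZMod.natCast_zmod_val]
      ring
    intro v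
    conv_lhs => rw [emb_split v]
    rw [fadd, fadd, one, one, one, om]
  have hc : ∀ v, Commute ((F.q u)⁻¹ * h) (F.q v) := fun v => by
    refine mul_inv_eq_iff_eq_mul.mp ?_
    calc (F.q u)⁻¹ * h * F.q v * ((F.q u)⁻¹ * h)⁻¹ = (F.q u)⁻¹ * (h * F.q v * h⁻¹) * F.q u := by group
      _ = (F.q u)⁻¹ * (F.q u * F.q v * (F.q u)⁻¹) * F.q u := by rw [hf', F.q_swap, hu]
      _ = F.q v := by group
  have hz' : Commute ((F.q u)⁻¹ * h) P.z := (F.q_z u).inv_left.mul_left hz
  obtain ⟨n, hn⟩ := P.self _ hz' fun y hy => by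
    obtain ⟨k, v, rfl⟩ := F.el_surj hy
    exact (P.zz_comm hz' k).mul_right (hc v)
  rw [show h = F.q u * ((F.q u)⁻¹ * h) by group, hn]
  exact mul_mem (F.q_Q u) (pow_mem (P.K_le 0 (P.z_K 0)) n)

theorem img_pos {x : G} {i : Fin 3} (h : P.Pos x i) (a : V2) :
    ∃ k, x * F.q (emb i a) * x⁻¹ = P.zz k * F.q (emb i a) := by
  rw [F.q_emb]; exact h _ (F.qi_K i a)

theorem img_neg {x : G} {i : Fin 3} (h : P.Neg x i) (a : V2) :
    ∃ k, x * F.q (emb i a) * x⁻¹ = P.zz k * F.q (-emb i a) := by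
  obtain ⟨k, hk⟩ := h _ (F.qi_K i a)
  rw [← F.q_inv, F.q_emb]
  exact ⟨k, hk⟩

/-- Values on the planes determine the action. -/
theorem img_of {h : G} {b : Bk} (hz : Commute h P.z)
    (e : ∀ i a, ∃ k, h * F.q (emb i a) * h⁻¹ = P.zz k * F.q (appB b (emb i a))) : F.Img h b := fun v => by
  obtain ⟨k0, h0⟩ := e 0 (v 0)
  obtain ⟨k1, h1⟩ := e 1 (v 1)
  obtain ⟨k2, h2⟩ := e 2 (v 2)
  have hv : F.q v = F.q (emb 0 (v 0)) * F.q (emb 1 (v 1)) * F.q (emb 2 (v 2)) := by
    rw [F.q_emb, F.q_emb, F.q_emb]; rfl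
  have hs : appB b v = appB b (emb 0 (v 0)) + appB b (emb 1 (v 1)) + appB b (emb 2 (v 2)) := by
    conv_lhs => rw [emb_split v, appB_add, appB_add]
  set x0 := appB b (emb 0 (v 0))
  set x1 := appB b (emb 1 (v 1))
  set x2 := appB b (emb 2 (v 2))
  refine ⟨k0 + k1 + k2 + -om x0 x1 + -om (x0 + x1) x2, ?_⟩
  rw [hv, show h * (F.q (emb 0 (v 0)) * F.q (emb 1 (v 1)) * F.q (emb 2 (v 2))) * h⁻¹ =
    (h * F.q (emb 0 (v 0)) * h⁻¹) * (h * F.q (emb 1 (v 1)) * h⁻¹) * (h * F.q (emb 2 (v 2)) * h⁻¹) by group,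
    h0, h1, h2, hs]
  calc P.zz k0 * F.q x0 * (P.zz k1 * F.q x1) * (P.zz k2 * F.q x2)
      = P.zz k0 * (F.q x0 * P.zz k1) * (F.q x1 * P.zz k2) * F.q x2 := by simp only [mul_assoc]
    _ = P.zz k0 * P.zz k1 * (F.q x0 * P.zz k2) * F.q x1 * F.q x2 := by
        rw [P.zz_swap (F.q_z x0), P.zz_swap (F.q_z x1)]; simp only [mul_assoc]
    _ = P.zz k0 * P.zz k1 * P.zz k2 * (F.q x0 * F.q x1 * F.q x2) := by
        rw [P.zz_swap (F.q_z x0)]; simp only [mul_assoc]
    _ = P.zz k0 * P.zz k1 * P.zz k2 * (P.zz (-om x0 x1) * P.zz (-om (x0 + x1) x2) * F.q (x0 + x1 + x2)) := by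
        rw [F.q_mul, mul_assoc _ (F.q (x0 + x1)), F.q_mul]; simp only [mul_assoc]
    _ = _ := by simp only [← mul_assoc, ← P.zz_add]; congr 2; ring

/-- The sign of a plane is realised. -/
theorem sign_img (i : Fin 3) :
    ∃ x ∈ P.P, F.Img x (dg fun l => if decide (l = i) then -1 else 1) := by
  obtain ⟨x, hx, hn, hp⟩ := P.P_sign i
  refine ⟨x, hx, F.img_of (P.P_z x hx) fun l a => ?_⟩
  by_cases hl : l = i
  · subst hl
    have e : appB (dg fun m => if decide (m = l) then -1 else 1) (emb l a) = -emb l a := by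
      funext m
      rw [appB_signs]
      by_cases hm : m = l <;> simp [emb, hm]
    rw [e]
    exact F.img_neg (fun q hq => by obtain ⟨k, hk⟩ := hn q hq; exact ⟨k, by rw [hk, P.zz_nat]⟩) a
  · have e : appB (dg fun m => if decide (m = i) then -1 else 1) (emb l a) = emb l a := by
      funext m
      rw [appB_signs]
      by_cases hm : m = i
      · subst hm; simp [emb, Ne.symm hl]
      · simp [hm]
    rw [e]
    exact F.img_pos (fun q hq => by obtain ⟨k, hk⟩ := hp l hl q hq; exact ⟨k, by rw [hk, P.zz_nat]⟩) a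

/-- A conjugate of a sign change is a sign change. -/
theorem sign_conj {h x : G} {c : Bk} (hh : Commute h P.z) (hx : x ∈ P.P) (e : F.Img x c) (cc : c * c = 1) :
    ∃ ε : Fin 3 → Bool, F.Img (h * x * h⁻¹) (dg fun l => if ε l then -1 else 1) := by
  classical
  have hy := P.P_conj h hh x hx
  have xx : F.Img (x * x) 1 := cc ▸ F.img_mul (P.P_z x hx) e e
  have hQ : h * x * h⁻¹ * (h * x * h⁻¹) ∈ P.Q := by
    rw [show h * x * h⁻¹ * (h * x * h⁻¹) = h * (x * x) * h⁻¹ by group]
    exact P.conj_Q h hh _ (F.img_ker ((P.P_z x hx).mul_left (P.P_z x hx)) xx)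
  have sq : ∀ i, ∀ q ∈ P.K i, ∃ k : ℕ, (h * x * h⁻¹) ^ 2 * q * ((h * x * h⁻¹) ^ 2)⁻¹ = P.z ^ k * q := by
    intro i q hq
    obtain ⟨k, a, rfl⟩ := F.K_el hq
    obtain ⟨l, hl⟩ := F.img_Q hQ (emb i a)
    rw [appB_one] at hl
    refine ⟨l.val, ?_⟩
    rw [pow_two, ← mul_assoc _ (P.zz k), P.zz_swap ((P.P_z _ hy).mul_left (P.P_z _ hy)),
      show ∀ p : G, P.zz k * p * F.q (emb i a) * p⁻¹ = P.zz k * (p * F.q (emb i a) * p⁻¹) from fun p => by group, hl]
    rw [← mul_assoc, ← P.zz_add, add_comm, P.zz_add, mul_assoc]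
    rfl
  have cases : ∀ i, P.Pos (h * x * h⁻¹) i ∨ P.Neg (h * x * h⁻¹) i := fun i => by
    rcases P.P_inv _ hy i (sq i) with k | k
    · exact Or.inl fun q hq => by obtain ⟨l, hl⟩ := k q hq; exact ⟨l, by rw [hl, P.zz_nat]⟩
    · exact Or.inr fun q hq => by obtain ⟨l, hl⟩ := k q hq; exact ⟨l, by rw [hl, P.zz_nat]⟩
  refine ⟨fun i => decide (¬ P.Pos (h * x * h⁻¹) i), F.img_of (P.P_z _ hy) fun i a => ?_⟩
  by_cases hp : P.Pos (h * x * h⁻¹) i
  · have e' : appB (dg fun l => if decide (¬ P.Pos (h * x * h⁻¹) l) then -1 else 1) (emb i a) = emb i a := by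
      funext m
      rw [appB_signs]
      by_cases hm : m = i
      · subst hm; simp [hp]
      · simp [emb, hm]
    rw [e']; exact F.img_pos hp a
  · have e' : appB (dg fun l => if decide (¬ P.Pos (h * x * h⁻¹) l) then -1 else 1) (emb i a) = -emb i a := by
      funext m
      rw [appB_signs]
      by_cases hm : m = i
      · subst hm; simp [hp]
      · simp [emb, hm]
    rw [e']; exact F.img_neg ((cases i).resolve_left hp) a

/-- Every element of the centraliser acts by a block matrix. -/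
theorem exists_img {h : G} (hz : Commute h P.z) : ∃ b, F.Img h b := by
  classical
  have ex : ∀ v, ∃ w, ∃ k, h * F.q v * h⁻¹ = P.zz k * F.q w := fun v => by
    obtain ⟨k, w, e⟩ := F.el_surj (P.conj_Q h hz _ (F.q_Q v))
    exact ⟨w, k, e⟩
  choose f c hf using ex
  have fadd : ∀ v w, f (v + w) = f v + f w := fun v w => by
    have e1 : h * (F.q v * F.q w) * h⁻¹ = P.zz (c v + c w + -om (f v) (f w)) * F.q (f v + f w) := by
      calc h * (F.q v * F.q w) * h⁻¹ = (h * F.q v * h⁻¹) * (h * F.q w * h⁻¹) := by group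
        _ = P.zz (c v) * (F.q (f v) * P.zz (c w)) * F.q (f w) := by rw [hf, hf]; group
        _ = P.zz (c v) * P.zz (c w) * (F.q (f v) * F.q (f w)) := by rw [P.zz_swap (F.q_z (f v))]; group
        _ = _ := by rw [F.q_mul]; simp only [← mul_assoc, ← P.zz_add]
    rw [F.q_mul, ← mul_assoc h, P.zz_swap hz,
      show P.zz (-om v w) * h * F.q (v + w) * h⁻¹ = P.zz (-om v w) * (h * F.q (v + w) * h⁻¹) by group, hf,
      ← mul_assoc, ← P.zz_add] at e1
    exact (F.el_inj e1).2
  have fom : ∀ v w, om (f v) (f w) = om v w := fun v w => by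
    have e1 : (h * F.q v * h⁻¹) * (h * F.q w * h⁻¹) * (h * F.q v * h⁻¹)⁻¹ = P.zz (om v w) * (h * F.q w * h⁻¹) := by
      rw [show (h * F.q v * h⁻¹) * (h * F.q w * h⁻¹) * (h * F.q v * h⁻¹)⁻¹ = h * (F.q v * F.q w * (F.q v)⁻¹) * h⁻¹
        by group, F.q_swap, ← mul_assoc h, P.zz_swap hz]
      group
    have e2 : (h * F.q v * h⁻¹) * (h * F.q w * h⁻¹) * (h * F.q v * h⁻¹)⁻¹ =
        P.zz (om (f v) (f w) + c w) * F.q (f w) := by
      rw [hf, hf]
      calc P.zz (c v) * F.q (f v) * (P.zz (c w) * F.q (f w)) * (P.zz (c v) * F.q (f v))⁻¹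
          = P.zz (c v) * (F.q (f v) * P.zz (c w)) * F.q (f w) * (F.q (f v))⁻¹ * (P.zz (c v))⁻¹ := by group
        _ = P.zz (c v) * (P.zz (c w) * (F.q (f v) * F.q (f w) * (F.q (f v))⁻¹)) * (P.zz (c v))⁻¹ := by
            rw [P.zz_swap (F.q_z (f v))]; group
        _ = P.zz (c w) * P.zz (om (f v) (f w)) * F.q (f w) := by
            have hx : Commute (P.zz (c w + om (f v) (f w)) * F.q (f w)) P.z :=
              ((Commute.refl P.z).pow_left _).mul_left (F.q_z _)
            rw [F.q_swap, ← mul_assoc (P.zz (c w)), ← P.zz_add, ← P.zz_swap hx, mul_inv_cancel_right]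
        _ = _ := by rw [← P.zz_add, add_comm]
    rw [e2, hf, ← mul_assoc, ← P.zz_add] at e1
    have := (F.el_inj e1).1
    exact add_right_cancel this
  have finj : ∀ v, f v = 0 → v = 0 := fun v e => by
    by_contra hv
    obtain ⟨w, hw⟩ := om_nondeg hv
    rw [← fom, e, om_zero_left] at hw
    exact hw rfl
  -- the signs seen after moving
  have sgn : ∀ i, ∃ ε : Fin 3 → Bool,
      (∀ a l, ε l = false → f (emb i a) l = 0) ∧ ∀ j, j ≠ i → ∀ a l, ε l = true → f (emb j a) l = 0 := fun i => by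
    obtain ⟨x, hx, hs⟩ := F.sign_img i
    obtain ⟨ε, hε⟩ := F.sign_conj hz hx hs (by
      rw [dg_mul]
      refine congrArg dg (funext fun l => ?_)
      by_cases hl : l = i <;> simp [hl])
    have key : ∀ v w, appB (dg fun l => if decide (l = i) then -1 else 1) v = w →
        appB (dg fun l => if ε l then -1 else 1) (f v) = f w := fun v w e => by
      obtain ⟨k, hk⟩ := hs v
      obtain ⟨l, hl⟩ := hε (f v)
      have e1 : h * x * h⁻¹ * (h * F.q v * h⁻¹) * (h * x * h⁻¹)⁻¹ = P.zz k * (P.zz (c w) * F.q (f w)) := by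
        rw [show h * x * h⁻¹ * (h * F.q v * h⁻¹) * (h * x * h⁻¹)⁻¹ = h * (x * F.q v * x⁻¹) * h⁻¹ by group, hk, e,
          ← mul_assoc h, P.zz_swap hz, ← hf]
        group
      rw [hf, ← mul_assoc (h * x * h⁻¹), P.zz_swap (P.P_z _ (P.P_conj h hz x hx)),
        show ∀ y : G, P.zz (c v) * y * F.q (f v) * y⁻¹ = P.zz (c v) * (y * F.q (f v) * y⁻¹) from fun y => by group,
        hl, ← mul_assoc, ← P.zz_add, ← mul_assoc, ← P.zz_add] at e1
      exact (F.el_inj e1).2
    have fneg : ∀ v, f (-v) = -f v := fun v => (AddMonoidHom.mk' f fadd).map_neg v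
    refine ⟨ε, fun a l hl => ?_, fun j hj a l hl => ?_⟩
    · have := congrFun (key (emb i a) (-emb i a) (by
        funext m; rw [appB_signs]; by_cases hm : m = i <;> simp [emb, hm])) l
      rw [fneg, appB_signs, hl] at this
      simp only [Bool.false_eq_true, if_false, Pi.neg_apply] at this
      exact v2_fix _ this.symm
    · have := congrFun (key (emb j a) (emb j a) (by
        funext m; rw [appB_signs]; by_cases hm : m = i
        · subst hm; simp [emb, Ne.symm hj]
        · simp [hm])) l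
      rw [appB_signs, hl, if_pos rfl] at this
      exact v2_fix _ this
  choose ε ε1 ε2 using sgn
  have some_l : ∀ i, ∃ l a, f (emb i a) l ≠ 0 := fun i => by
    by_contra hne
    push Not at hne
    have := finj (emb i (1, 0)) (funext fun l => hne l (1, 0))
    have := congrFun this i
    simp [emb] at this
  choose π hπ using some_l
  have disj : ∀ i j l, (∃ a, f (emb i a) l ≠ 0) → (∃ a, f (emb j a) l ≠ 0) → i = j := by
    rintro i j l ⟨a, ha⟩ ⟨a', ha'⟩
    by_contra hij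
    cases e : ε i l
    · exact ha (ε1 i a l e)
    · exact ha' (ε2 i j (Ne.symm hij) a' l e)
  have πinj : Function.Injective π := fun i j e => disj i j (π i) (hπ i) (e ▸ hπ j)
  let πe : Equiv.Perm (Fin 3) := Equiv.ofBijective π (Finite.injective_iff_bijective.mp πinj)
  have supp : ∀ i a l, l ≠ π i → f (emb i a) l = 0 := fun i a l hl => by
    by_contra hne
    obtain ⟨j, rfl⟩ := (Finite.injective_iff_bijective.mp πinj).2 l
    exact hl (congrArg π (disj j i (π j) (hπ j) ⟨a, hne⟩))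
  have feq : ∀ i a, f (emb i a) = emb (π i) (f (emb i a) (π i)) := fun i a => funext fun l => by
    by_cases hl : l = π i
    · subst hl; simp [emb]
    · rw [supp i a l hl]; simp [emb, hl]
  have blk : ∀ i, ∃ g : SL23, ∀ a, app2 g a = f (emb i a) (π i) := fun i => by
    refine app2_map _ (fun a b => by rw [emb_add, fadd]; rfl) fun a b => ?_
    rw [← om_emb_emb (π i), ← feq, ← feq, fom, om_emb_emb]
  choose g hg using blk
  refine ⟨⟨πe, fun l => g (πe.symm l)⟩, F.img_of hz fun i a => ⟨c (emb i a), ?_⟩⟩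
  rw [hf, appB_emb]
  show _ = P.zz _ * F.q (emb (π i) (app2 (g (πe.symm (πe i))) a))
  rw [Equiv.symm_apply_apply, hg, ← feq]

/-- The inverting involution changes all signs. -/
theorem img_j : F.Img F.j negB := fun v => ⟨0, by rw [P.zz_zero, one_mul, appB_negB, F.ji, F.q_j]⟩

/-- A general element is a core element times one commuting with the involution. -/
theorem decomp {h : G} (hz : Commute h P.z) :
    ∃ u s, Commute s P.z ∧ Commute s F.j ∧ h = F.q u * s := by
  obtain ⟨b, hb⟩ := F.exists_img hz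
  obtain ⟨b', hb'⟩ := F.exists_img hz.inv_left
  have bb : b * b' = 1 := by
    have := F.img_mul hz hb hb'
    rw [mul_inv_cancel] at this
    exact F.img_unique this F.img_one
  have hcomm : b * negB = negB * b := appB_inj fun v => by rw [appB_mul, appB_mul, appB_negB, appB_negB, appB_neg]
  have hj : F.Img (F.j * (h * F.j * h⁻¹)) 1 := by
    have := F.img_mul F.jz F.img_j (F.img_mul (hz.mul_left F.jz) (F.img_mul hz hb F.img_j) hb')
    rwa [show negB * (b * negB * b') = 1 by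
      rw [hcomm, mul_assoc negB b, bb, mul_one]
      exact appB_inj fun v => by rw [appB_mul, appB_negB, appB_negB, appB_one, neg_neg]] at this
  obtain ⟨k, w, e⟩ := F.el_surj (F.img_ker (F.jz.mul_left ((hz.mul_left F.jz).mul_left hz.inv_left)) hj)
  set x := F.j * (h * F.j * h⁻¹) with hxdef
  have hinv : F.j * x * F.j = x⁻¹ := by
    rw [hxdef, ← mul_assoc, F.jj, one_mul, _root_.mul_inv_rev, _root_.mul_inv_rev, _root_.mul_inv_rev, inv_inv, F.ji]
    simp only [mul_assoc]
  have k0 : k = 0 := by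
    rw [e, ← mul_assoc, P.zz_swap F.jz, mul_assoc (P.zz k), mul_assoc (P.zz k), F.q_j, _root_.mul_inv_rev, F.q_inv,
      ← P.zz_neg, P.zz_swap (F.q_z _)] at hinv
    have := (F.el_inj hinv).1
    exact (by decide : ∀ k : ZMod 3, k = -k → k = 0) k this
  rw [k0, P.zz_zero, one_mul] at e
  have hconj : h * F.j * h⁻¹ = F.j * F.q w := by
    rw [← e, hxdef, ← mul_assoc F.j F.j, F.jj, one_mul]
  have hu : F.q w * F.j * (F.q w)⁻¹ = F.j * F.q w := by
    calc F.q w * F.j * (F.q w)⁻¹ = F.j * (F.j * F.q w * F.j) * (F.q w)⁻¹ := by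
          rw [← mul_assoc F.j (F.j * F.q w), ← mul_assoc F.j F.j, F.jj, one_mul]
      _ = F.j * (F.q (-w) * F.q (-w)) := by rw [F.q_j, F.q_inv, mul_assoc]
      _ = _ := by rw [F.q_mul, om_self, neg_zero, P.zz_zero, one_mul, V6_half]
  refine ⟨w, (F.q w)⁻¹ * h, (F.q_z w).inv_left.mul_left hz, ?_, by group⟩
  refine mul_inv_eq_iff_eq_mul.mp ?_
  calc (F.q w)⁻¹ * h * F.j * ((F.q w)⁻¹ * h)⁻¹ = (F.q w)⁻¹ * (h * F.j * h⁻¹) * F.q w := by group
    _ = (F.q w)⁻¹ * (F.q w * F.j * (F.q w)⁻¹) * F.q w := by rw [hconj, hu]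
    _ = F.j := by group

/-- Elements commuting with the involution act exactly. -/
theorem exact_img {s : G} {b : Bk} (sj : Commute s F.j) (sz : Commute s P.z) (e : F.Img s b) (v : V6) :
    s * F.q v * s⁻¹ = F.q (appB b v) := by
  obtain ⟨k, hk⟩ := e v
  obtain ⟨k', hk'⟩ := e (-v)
  have e1 : F.j * (s * F.q v * s⁻¹) * F.j = s * F.q (-v) * s⁻¹ := by
    calc F.j * (s * F.q v * s⁻¹) * F.j = (F.j * s) * F.q v * (s⁻¹ * F.j) := by group
      _ = s * (F.j * F.q v * F.j) * s⁻¹ := by rw [← sj.eq, sj.inv_left.eq]; group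
      _ = _ := by rw [F.q_j]
  have e2 : s * F.q (-v) * s⁻¹ = (s * F.q v * s⁻¹)⁻¹ := by rw [← F.q_inv]; group
  rw [e2, hk, ← mul_assoc, P.zz_swap F.jz, mul_assoc (P.zz k), mul_assoc (P.zz k), F.q_j, _root_.mul_inv_rev, F.q_inv,
    ← P.zz_neg, P.zz_swap (F.q_z _)] at e1
  have := (F.el_inj e1).1
  rw [hk, (by decide : ∀ k : ZMod 3, k = -k → k = 0) k this, P.zz_zero, one_mul]

/-- Every sign change is realised exactly. -/
theorem signs {g : Fin 3 → SL23} (hg : ∀ i, g i = 1 ∨ g i = -1) :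
    ∃ s, Commute s P.z ∧ Commute s F.j ∧ ∀ v, s * F.q v * s⁻¹ = F.q (appB (dg g) v) := by
  classical
  have one : ∀ i, ∃ x, Commute x P.z ∧ F.Img x (dg fun l => if l = i then g i else 1) := fun i => by
    rcases hg i with e | e
    · refine ⟨1, Commute.one_left _, ?_⟩
      convert F.img_one using 1
      rw [← dg_one, e]
      exact congrArg dg (funext fun l => by simp)
    · obtain ⟨x, hx, hs⟩ := F.sign_img i
      refine ⟨x, P.P_z x hx, ?_⟩
      convert hs using 3 with l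
      by_cases hl : l = i <;> simp [hl, e]
  obtain ⟨x0, z0, h0⟩ := one 0
  obtain ⟨x1, z1, h1⟩ := one 1
  obtain ⟨x2, z2, h2⟩ := one 2
  have h3 := F.img_mul (z0.mul_left z1) (F.img_mul z0 h0 h1) h2
  rw [dg_mul, dg_mul] at h3
  have hg' : ((fun l : Fin 3 => if l = 0 then g 0 else 1) * (fun l => if l = 1 then g 1 else 1) *
      fun l => if l = 2 then g 2 else 1) = g := funext fun l => by fin_cases l <;> simp
  rw [hg'] at h3
  obtain ⟨u, s, sz, sj, e⟩ := F.decomp ((z0.mul_left z1).mul_left z2)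
  refine ⟨s, sz, sj, F.exact_img sj sz ?_⟩
  have := F.img_mul (F.q_z u).inv_left (F.img_Q (inv_mem (F.q_Q u))) h3
  rwa [one_mul, e, inv_mul_cancel_left] at this

/-- The factors are kept by the block actions, which have fourth power one. -/
theorem img_P {x : G} {b : Bk} (hx : x ∈ P.P) (e : F.Img x b) : b.π = 1 ∧ ∀ i, ψ (b.g i) = 0 := by
  have hπ : b.π = 1 := Equiv.ext fun i => by
    obtain ⟨k, hk⟩ := e (emb i (1, 0))
    obtain ⟨l, a, hl⟩ := F.K_el (P.P_K x hx i _ (F.qi_K i (1, 0)))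
    rw [← F.q_emb] at hl
    have := (F.el_inj (hk.symm.trans hl)).2
    rw [appB_emb] at this
    by_contra hne
    have h1 := congrFun this (b.π i)
    rw [emb_self, emb_ne (show b.π i ≠ i from hne)] at h1
    exact (by decide +kernel : ∀ g : SL23, app2 g (1, 0) ≠ 0) _ h1
  refine ⟨hπ, fun i => sgn_four _ ?_⟩
  have e4 : F.Img (x * x * (x * x)) (b * b * (b * b)) :=
    F.img_mul ((P.P_z x hx).mul_left (P.P_z x hx)) (F.img_mul (P.P_z x hx) e e) (F.img_mul (P.P_z x hx) e e)
  have e1 : F.Img (x * x * (x * x)) 1 := F.img_of (by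
      exact ((P.P_z x hx).mul_left (P.P_z x hx)).mul_left ((P.P_z x hx).mul_left (P.P_z x hx))) fun i a => by
    obtain ⟨k, hk⟩ := P.P_four x hx i _ (F.qi_K i a)
    refine ⟨(k : ZMod 3), ?_⟩
    rw [appB_one, F.q_emb, ← P.zz_nat, ← hk, show x * x * (x * x) = x ^ 4 by simp [pow_succ, mul_assoc]]
  have := congrArg (fun c : Bk => c.g i) (F.img_unique e4 e1)
  rw [eq_dg hπ, dg_mul, dg_mul] at this
  exact this

end Pre.Fr

end CfsgLib.Fi22Loc
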