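import Cfsg.Agent.Lib.Fi22Loc.Exists.Pre

/-!
The coordinates of the core, fixed by an inverting involution.
-/

set_option autoImplicit false
set_option linter.unusedSectionVars false

namespace CfsgLib.Fi22Loc

open CfsgLib.U6Three (V2 SL23 det2 app2)

universe u

namespace Pre

variable {G : Type u} [Group G] (P : Pre G)

/-- A pair of generators of each factor, inverted by the involution. -/
structure Fr where
  /-- the involution -/
  j : G
  /-- first generators -/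
  a : Fin 3 → G
  /-- second generators -/
  b : Fin 3 → G
  jj : j * j = 1
  jz : Commute j P.z
  ma : ∀ i, a i ∈ P.K i
  mb : ∀ i, b i ∈ P.K i
  ja : ∀ i, j * a i * j = (a i)⁻¹
  jb : ∀ i, j * b i * j = (b i)⁻¹
  ab : ∀ i, a i * b i * (a i)⁻¹ = P.z * b i
  cube : ∀ i, ∀ x ∈ P.K i, x ^ 3 = 1
  neg : ∀ i, P.Neg j i

variable [Finite G]

theorem exists_fr : Nonempty P.Fr := by
  classical
  obtain ⟨j, jj, jz, jn⟩ := P.exists_j
  have ji : j⁻¹ = j := inv_eq_of_mul_eq_one_right jj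
  -- cubes are trivial
  have cube : ∀ i, ∀ x ∈ P.K i, x ^ 3 = 1 := by
    intro i x hx
    have xz := P.K_z hx
    have hc : ∀ l, ∀ y ∈ P.K l, Commute (x ^ 3) y := by
      intro l y hy
      by_cases h : l = i
      · subst h
        obtain ⟨k, hk⟩ := P.K_comm l x hx y hy
        have e : ∀ n : ℕ, x ^ n * y * (x ^ n)⁻¹ = (P.z ^ k) ^ n * y := by
          intro n
          induction n with
          | zero => simp
          | succ n ih =>
            calc x ^ (n + 1) * y * (x ^ (n + 1))⁻¹ = x * (x ^ n * y * (x ^ n)⁻¹) * x⁻¹ := by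
                  rw [pow_succ', _root_.mul_inv_rev]; simp only [mul_assoc]
              _ = (P.z ^ k) ^ n * (x * y * x⁻¹) := by
                  rw [ih, ← mul_assoc x, ((xz.pow_right k).pow_right n).eq]; simp only [mul_assoc]
              _ = _ := by
                  rw [show x * y * x⁻¹ = P.z ^ k * y from mul_inv_eq_iff_eq_mul.mp hk, pow_succ]
                  simp only [mul_assoc]
        have := e 3
        rw [← pow_mul, mul_comm, pow_mul, P.z_cube, one_pow, one_mul] at this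
        exact mul_inv_eq_iff_eq_mul.mp this
      · exact (P.cross i l (Ne.symm h) x hx y hy).pow_left 3
    obtain ⟨n, hn⟩ := P.self _ (xz.pow_left 3) (P.gen _ hc)
    obtain ⟨k, hk⟩ := jn i x hx
    have h2 : (P.zz k * x⁻¹) ^ 3 = x ^ 3 := by
      rw [← hk, conj_pow, hn, (jz.pow_right n).eq, mul_inv_cancel_right]
    rw [((P.zz_comm xz k).inv_left.symm).mul_pow, show P.zz k ^ 3 = 1 by
      rw [Pre.zz, ← pow_mul, mul_comm, pow_mul, P.z_cube, one_pow], one_mul, inv_pow] at h2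
    have h6 : x ^ 3 * x ^ 3 = 1 := by
      nth_rewrite 1 [← h2]
      exact inv_mul_cancel _
    calc x ^ 3 = x ^ 3 * (x ^ 3) ^ 3 * ((x ^ 3) ^ 3)⁻¹ := by group
      _ = (x ^ 3 * x ^ 3) ^ 2 * ((x ^ 3) ^ 3)⁻¹ := by group
      _ = 1 := by rw [h6, hn, ← pow_mul, mul_comm n, pow_mul, P.z_cube]; simp
  -- inverted representatives
  have rep : ∀ i, ∀ x ∈ P.K i, ∃ k : ZMod 3, j * (P.zz k * x) * j = (P.zz k * x)⁻¹ := by
    intro i x hx
    obtain ⟨k, hk⟩ := jn i x hx
    rw [ji] at hk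
    refine ⟨k, ?_⟩
    rw [_root_.mul_inv_rev, ← P.zz_neg, P.zz_swap (P.K_z hx).inv_left, ← mul_assoc, P.zz_swap jz,
      show P.zz k * j * x * j = P.zz k * (j * x * j) by simp only [mul_assoc], hk, ← mul_assoc, ← P.zz_add]
    congr 2
    exact (by decide : ∀ k : ZMod 3, k + k = -k) k
  have pair : ∀ i, ∃ a b, a ∈ P.K i ∧ b ∈ P.K i ∧ j * a * j = a⁻¹ ∧ j * b * j = b⁻¹ ∧ a * b * a⁻¹ = P.z * b := by
    intro i
    obtain ⟨x, hx, y, hy, hne⟩ := P.K_noncomm i
    obtain ⟨kx, hkx⟩ := rep i x hx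
    obtain ⟨ky, hky⟩ := rep i y hy
    obtain ⟨c, hc⟩ := P.K_comm i x hx y hy
    rw [P.zz_nat] at hc
    have c0 : (c : ZMod 3) ≠ 0 := fun e => hne (by
      rw [e, P.zz_zero] at hc
      exact mul_inv_eq_iff_eq_mul.mp (by rwa [mul_inv_eq_one] at hc))
    have conj : ∀ v, P.zz kx * x * v * (P.zz kx * x)⁻¹ = P.zz kx * (x * v * x⁻¹) * (P.zz kx)⁻¹ := fun v => by
      rw [_root_.mul_inv_rev]; simp only [mul_assoc]
    have hxy : P.zz kx * x * (P.zz ky * y) * (P.zz kx * x)⁻¹ = P.zz c * (P.zz ky * y) := by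
      rw [conj, ← mul_assoc x, P.zz_swap (P.K_z hx), show P.zz ky * x * y * x⁻¹ = P.zz ky * (x * y * x⁻¹) by
          simp only [mul_assoc],
        show x * y * x⁻¹ = P.zz c * y from mul_inv_eq_iff_eq_mul.mp hc]
      have hz : Commute (P.zz ky * (P.zz c * y)) P.z :=
        ((Commute.refl P.z).pow_left _).mul_left (((Commute.refl P.z).pow_left _).mul_left (P.K_z hy))
      rw [← P.zz_swap hz, mul_inv_cancel_right, ← mul_assoc, ← P.zz_add, add_comm, P.zz_add, mul_assoc]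
    rcases (by decide : ∀ c : ZMod 3, c ≠ 0 → c = 1 ∨ c = -1) c c0 with e | e
    · refine ⟨_, _, mul_mem (P.zz_K kx i) hx, mul_mem (P.zz_K ky i) hy, hkx, hky, ?_⟩
      rw [hxy, e, P.zz_one]
    · refine ⟨_, (P.zz ky * y)⁻¹, mul_mem (P.zz_K kx i) hx, inv_mem (mul_mem (P.zz_K ky i) hy), hkx, ?_, ?_⟩
      · have := congrArg Inv.inv hky
        simpa [_root_.mul_inv_rev, ji, mul_assoc] using this
      · rw [← conj_inv, hxy, _root_.mul_inv_rev, e, P.zz_neg, inv_inv, P.zz_one]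
        exact (P.K_z (inv_mem (mul_mem (P.zz_K ky i) hy))).eq
  choose a b ma mb ja jb ab using pair
  exact ⟨⟨j, a, b, jj, jz, ma, mb, ja, jb, ab, cube, jn⟩⟩

namespace Fr

variable {P} (F : P.Fr)

theorem ji : F.j⁻¹ = F.j := inv_eq_of_mul_eq_one_right F.jj

theorem az (i : Fin 3) : Commute (F.a i) P.z := P.K_z (F.ma i)

theorem bz (i : Fin 3) : Commute (F.b i) P.z := P.K_z (F.mb i)

theorem pow_val_add {x : G} (h : x ^ 3 = 1) (s t : ZMod 3) : x ^ (s + t).val = x ^ s.val * x ^ t.val := by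
  rw [← pow_add, ZMod.val_add, ← pow_eq_pow_mod _ h]

theorem pow_val_neg {x : G} (h : x ^ 3 = 1) (s : ZMod 3) : x ^ (-s).val = (x ^ s.val)⁻¹ :=
  eq_inv_of_mul_eq_one_left (by rw [← pow_val_add h, neg_add_cancel, ZMod.val_zero, pow_zero])

/-- Moving a power of the second generator across one of the first. -/
theorem move (i : Fin 3) (s t : ℕ) : F.a i ^ s * F.b i ^ t = P.zz ((s * t : ℕ) : ZMod 3) * (F.b i ^ t * F.a i ^ s) := by
  have e : ∀ t : ℕ, F.a i * F.b i ^ t = P.zz (t : ZMod 3) * (F.b i ^ t * F.a i) := by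
    intro t
    have := conj_pow (i := t) (a := F.a i) (b := F.b i)
    rw [F.ab, (F.bz i).symm.mul_pow, P.zz_nat] at this
    rw [← mul_assoc (P.zz _), this, inv_mul_cancel_right]
  induction s with
  | zero => simp [Pre.zz_zero]
  | succ s ih =>
    calc F.a i ^ (s + 1) * F.b i ^ t = F.a i * (F.a i ^ s * F.b i ^ t) := by rw [pow_succ', mul_assoc]
      _ = P.zz ((s * t : ℕ) : ZMod 3) * (F.a i * F.b i ^ t) * F.a i ^ s := by
          rw [ih, ← mul_assoc, P.zz_swap (F.az i)]; simp only [mul_assoc]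
      _ = P.zz ((s * t : ℕ) : ZMod 3) * P.zz (t : ZMod 3) * (F.b i ^ t * (F.a i * F.a i ^ s)) := by
          rw [e]; simp only [mul_assoc]
      _ = _ := by rw [← P.zz_add, ← pow_succ']; congr 2; push_cast; ring

/-- The inverted element with given coordinates on one plane. -/
def qi (i : Fin 3) (v : V2) : G := P.zz (v.1 * v.2) * (F.a i ^ v.1.val * F.b i ^ v.2.val)

theorem qi_K (i : Fin 3) (v : V2) : F.qi i v ∈ P.K i :=
  mul_mem (P.zz_K _ i) (mul_mem (pow_mem (F.ma i) _) (pow_mem (F.mb i) _))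

theorem qi_z (i : Fin 3) (v : V2) : Commute (F.qi i v) P.z := P.K_z (F.qi_K i v)

theorem qi_mul (i : Fin 3) (v w : V2) : F.qi i v * F.qi i w = P.zz (-det2 v w) * F.qi i (v + w) := by
  have ca := F.cube i _ (F.ma i)
  have cb := F.cube i _ (F.mb i)
  obtain ⟨s, t⟩ := v
  obtain ⟨s', t'⟩ := w
  have m : F.b i ^ t.val * F.a i ^ s'.val = P.zz (-(s' * t)) * (F.a i ^ s'.val * F.b i ^ t.val) := by
    rw [F.move, ← mul_assoc, ← P.zz_add]
    simp [Pre.zz_zero]
  simp only [qi, Prod.mk_add_mk, pow_val_add ca, pow_val_add cb]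
  calc P.zz (s * t) * (F.a i ^ s.val * F.b i ^ t.val) * (P.zz (s' * t') * (F.a i ^ s'.val * F.b i ^ t'.val))
      = P.zz (s * t) * P.zz (s' * t') * (F.a i ^ s.val * (F.b i ^ t.val * F.a i ^ s'.val) * F.b i ^ t'.val) := by
        rw [← mul_assoc, mul_assoc (P.zz (s * t)) _ (P.zz (s' * t')),
          P.zz_swap (((F.az i).pow_left _).mul_left ((F.bz i).pow_left _))]
        simp only [mul_assoc]
    _ = P.zz (s * t) * P.zz (s' * t') * P.zz (-(s' * t)) *
          (F.a i ^ s.val * (F.a i ^ s'.val * F.b i ^ t.val) * F.b i ^ t'.val) := by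
        rw [m, ← mul_assoc (F.a i ^ s.val), P.zz_swap ((F.az i).pow_left _)]
        simp only [mul_assoc]
    _ = _ := by
        rw [← P.zz_add, ← P.zz_add]
        simp only [← mul_assoc]
        rw [← P.zz_add]
        congr 5
        simp only [det2]
        have h3 : (3 : ZMod 3) = 0 := rfl
        linear_combination -(t * s') * h3

theorem qi_zero (i : Fin 3) : F.qi i 0 = 1 := by simp [qi, Pre.zz_zero]

theorem qi_inv (i : Fin 3) (v : V2) : (F.qi i v)⁻¹ = F.qi i (-v) :=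
  inv_eq_of_mul_eq_one_right (by
    rw [qi_mul, add_neg_cancel, qi_zero, mul_one,
      show -det2 v (-v) = 0 by simp [det2]; ring, Pre.zz_zero])

theorem qi_cross {i l : Fin 3} (h : i ≠ l) (v w : V2) : Commute (F.qi i v) (F.qi l w) :=
  P.cross i l h _ (F.qi_K i v) _ (F.qi_K l w)

theorem qi_j (i : Fin 3) (v : V2) : F.j * F.qi i v * F.j = F.qi i (-v) := by
  have ca := F.cube i _ (F.ma i)
  have cb := F.cube i _ (F.mb i)
  have hp : ∀ {x : G}, F.j * x * F.j = x⁻¹ → ∀ n : ℕ, F.j * x ^ n * F.j = (x ^ n)⁻¹ := fun {x} h n => by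
    have := conj_pow (i := n) (a := F.j) (b := x)
    rw [F.ji, h, inv_pow] at this
    exact this.symm
  simp only [qi, Prod.fst_neg, Prod.snd_neg, pow_val_neg ca, pow_val_neg cb, neg_mul_neg]
  rw [← hp (F.ja i), ← hp (F.jb i), ← mul_assoc F.j, P.zz_swap F.jz]
  simp only [mul_assoc]
  congr 3
  rw [← mul_assoc F.j F.j, F.jj, one_mul]

/-- The inverted element with given coordinates. -/
def q (v : V6) : G := F.qi 0 (v 0) * F.qi 1 (v 1) * F.qi 2 (v 2)

theorem q_Q (v : V6) : F.q v ∈ P.Q :=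
  mul_mem (mul_mem (P.K_le 0 (F.qi_K 0 _)) (P.K_le 1 (F.qi_K 1 _))) (P.K_le 2 (F.qi_K 2 _))

theorem q_z (v : V6) : Commute (F.q v) P.z := P.Q_z _ (F.q_Q v)

theorem q_mul (v w : V6) : F.q v * F.q w = P.zz (-om v w) * F.q (v + w) := by
  have c := fun i l (h : i ≠ l) x y => (F.qi_cross h x y).eq
  calc F.q v * F.q w = F.qi 0 (v 0) * F.qi 1 (v 1) * (F.qi 2 (v 2) * F.qi 0 (w 0)) * F.qi 1 (w 1) * F.qi 2 (w 2) := by
        simp only [q, mul_assoc]
    _ = F.qi 0 (v 0) * (F.qi 1 (v 1) * F.qi 0 (w 0)) * (F.qi 2 (v 2) * F.qi 1 (w 1)) * F.qi 2 (w 2) := by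
        rw [c 2 0 (by decide)]; simp only [mul_assoc]
    _ = (F.qi 0 (v 0) * F.qi 0 (w 0)) * (F.qi 1 (v 1) * F.qi 1 (w 1)) * (F.qi 2 (v 2) * F.qi 2 (w 2)) := by
        rw [c 1 0 (by decide), c 2 1 (by decide)]; simp only [mul_assoc]
    _ = P.zz (-det2 (v 0) (w 0)) * P.zz (-det2 (v 1) (w 1)) * P.zz (-det2 (v 2) (w 2)) * F.q (v + w) := by
        rw [qi_mul, qi_mul, qi_mul]
        simp only [q, Pi.add_apply]
        simp only [← mul_assoc]
        rw [mul_assoc _ (F.qi 0 (v 0 + w 0)) (P.zz _), P.zz_swap (F.qi_z 0 _)]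
        simp only [← mul_assoc]
        rw [mul_assoc _ (F.qi 1 (v 1 + w 1)) (P.zz _), P.zz_swap (F.qi_z 1 _)]
        simp only [← mul_assoc]
        rw [mul_assoc _ (F.qi 0 (v 0 + w 0)) (P.zz _), P.zz_swap (F.qi_z 0 _)]
        simp only [mul_assoc]
    _ = _ := by rw [← P.zz_add, ← P.zz_add, om, neg_add, neg_add]

theorem q_emb (i : Fin 3) (a : V2) : F.q (emb i a) = F.qi i a := by
  fin_cases i <;> simp [q, emb, qi_zero]

theorem q_zero : F.q 0 = 1 := by simp [q, qi_zero]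

theorem q_inv (v : V6) : (F.q v)⁻¹ = F.q (-v) :=
  inv_eq_of_mul_eq_one_right (by
    rw [q_mul, add_neg_cancel, q_zero, mul_one, om_neg_right, om_self, neg_zero, neg_zero, Pre.zz_zero])

theorem q_j (v : V6) : F.j * F.q v * F.j = F.q (-v) := by
  simp only [q, Pi.neg_apply, ← qi_j]
  calc F.j * (F.qi 0 (v 0) * F.qi 1 (v 1) * F.qi 2 (v 2)) * F.j
      = F.j * F.qi 0 (v 0) * (F.j * F.j) * F.qi 1 (v 1) * (F.j * F.j) * F.qi 2 (v 2) * F.j := by
        rw [F.jj]; simp only [mul_one, mul_assoc]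
    _ = _ := by simp only [mul_assoc]

/-- Commuting elements have perpendicular coordinates. -/
theorem q_swap (v w : V6) : F.q w * F.q v * (F.q w)⁻¹ = P.zz (om w v) * F.q v := by
  rw [q_mul, q_inv, mul_assoc, q_mul, ← mul_assoc, ← P.zz_add, add_neg_cancel_comm]
  congr 2
  rw [om_add_left, om_neg_right, om_neg_right, om_self, om_swap v w]
  simp only [neg_neg, neg_zero, zero_add, add_zero, neg_add_rev]
  exact (by decide : ∀ x : ZMod 3, x + x = -x) _

theorem el_one {k : ZMod 3} {v : V6} (e : P.zz k * F.q v = 1) : k = 0 ∧ v = 0 := by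
  have hv : v = 0 := by
    by_contra hv
    obtain ⟨w, hw⟩ := om_nondeg hv
    have h1 : Commute (F.q w) (F.q v) := by
      have : F.q v = (P.zz k)⁻¹ := eq_inv_of_mul_eq_one_right e
      rw [this]
      exact ((P.zz_comm (F.q_z w) k)).inv_right
    have h2 := F.q_swap v w
    rw [h1.eq, mul_inv_cancel_right] at h2
    have h3 : P.zz 0 = P.zz (om w v) := by
      rw [P.zz_zero]; exact mul_right_cancel ((one_mul _).trans h2)
    exact hw (by rw [om_swap w v, ← P.zz_inj h3, neg_zero])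
  subst hv
  rw [F.q_zero, mul_one] at e
  exact ⟨P.zz_inj (e.trans P.zz_zero.symm), rfl⟩

theorem el_inj {k l : ZMod 3} {v w : V6} (e : P.zz k * F.q v = P.zz l * F.q w) : k = l ∧ v = w := by
  have h : P.zz (k - l + om v w) * F.q (v + -w) = 1 := by
    have e2 : F.q v * (F.q w)⁻¹ = P.zz (om v w) * F.q (v + -w) := by
      rw [q_inv, q_mul, om_neg_right, neg_neg]
    calc P.zz (k - l + om v w) * F.q (v + -w) = P.zz (-l) * (P.zz k * (F.q v * (F.q w)⁻¹)) := by
          rw [e2, ← mul_assoc (P.zz k), ← P.zz_add, ← mul_assoc, ← P.zz_add]; congr 2; ring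
      _ = 1 := by rw [← mul_assoc (P.zz k), e, mul_inv_cancel_right, P.zz_neg, inv_mul_cancel]
  obtain ⟨h1, h2⟩ := F.el_one h
  have hv : v = w := eq_of_sub_eq_zero (by rw [sub_eq_add_neg, h2])
  subst hv
  rw [om_self, add_zero] at h1
  exact ⟨sub_eq_zero.mp h1, rfl⟩

theorem el_surj {x : G} (hx : x ∈ P.Q) : ∃ k v, x = P.zz k * F.q v := by
  let f : ZMod 3 × V6 → P.Q := fun p => ⟨P.zz p.1 * F.q p.2, mul_mem (P.zz_Q _) (F.q_Q _)⟩
  have hf : Function.Injective f := fun p p' e => by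
    obtain ⟨h1, h2⟩ := F.el_inj (congrArg Subtype.val e)
    exact Prod.ext h1 h2
  have hb : Function.Bijective f := (Nat.bijective_iff_injective_and_card f).mpr ⟨hf, by
    rw [P.card_Q, Nat.card_prod, Nat.card_fun, Nat.card_prod, Nat.card_zmod, Nat.card_fin]; norm_num⟩
  obtain ⟨⟨k, v⟩, e⟩ := hb.2 ⟨x, hx⟩
  exact ⟨k, v, (congrArg Subtype.val e).symm⟩

theorem K_el {i : Fin 3} {x : G} (hx : x ∈ P.K i) : ∃ k a, x = P.zz k * F.q (emb i a) := by
  let f : ZMod 3 × V2 → P.K i := fun p => ⟨P.zz p.1 * F.qi i p.2, mul_mem (P.zz_K _ i) (F.qi_K i _)⟩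
  have hf : Function.Injective f := fun p p' e => by
    have e' : P.zz p.1 * F.qi i p.2 = P.zz p'.1 * F.qi i p'.2 := congrArg Subtype.val e
    rw [← F.q_emb, ← F.q_emb] at e'
    obtain ⟨h1, h2⟩ := F.el_inj e'
    exact Prod.ext h1 (by simpa [emb] using congrFun h2 i)
  have hb : Function.Bijective f := (Nat.bijective_iff_injective_and_card f).mpr ⟨hf, by
    rw [P.card_K, Nat.card_prod, Nat.card_prod, Nat.card_zmod]⟩
  obtain ⟨⟨k, a⟩, e⟩ := hb.2 ⟨x, hx⟩
  exact ⟨k, a, by rw [F.q_emb]; exact (congrArg Subtype.val e).symm⟩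

end Fr

end Pre

end CfsgLib.Fi22Loc
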