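import Cfsg.Agent.Lib.Fi22Loc.Exists.Act
import Cfsg.Agent.Lib.Components
import Cfsg.Prelude.Def_Transfer
import Cfsg.Prelude.Def_Solvable
import Mathlib.GroupTheory.Sylow

/-!
The setting from a three-centraliser with an extraspecial core and three quaternion actions on top.
-/

set_option autoImplicit false
set_option linter.unusedSectionVars false
set_option synthInstance.maxSize 1024

namespace CfsgLib.Fi22Loc

open CfsgLib.U6Three (V2 SL23 det2 app2)

universe u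

theorem Tr.one : Tr 1 := ⟨rfl, cv_one⟩

theorem Tr.mul {a b : Bk} (ha : Tr a) (hb : Tr b) : Tr (a * b) :=
  ⟨by rw [mul_π, ha.1, hb.1, mul_one], funext fun i => by rw [cv_mul, ha.2, hb.2]; simp⟩

theorem Tr.inv {a : Bk} (ha : Tr a) : Tr a⁻¹ := by
  refine ⟨by rw [inv_π, ha.1, inv_one], funext fun i => ?_⟩
  have h := cv_mul a⁻¹ a i
  rw [inv_mul_cancel, cv_one, ha.2] at h
  simpa using h.symm

theorem Tr.conj {a : Bk} (ha : Tr a) (c : Bk) : Tr (c * a * c⁻¹) := by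
  have h : Sm a 1 := ⟨ha.1, ha.2.trans cv_one.symm⟩
  have := ((show Sm c c from ⟨rfl, rfl⟩).mul h).mul (show Sm c⁻¹ c⁻¹ from ⟨rfl, rfl⟩)
  rw [mul_one, mul_inv_cancel] at this
  exact ⟨this.1, this.2.trans cv_one⟩

/-- The trivial classes. -/
def trB : Subgroup Bk where
  carrier := {b | Tr b}
  one_mem' := Tr.one
  mul_mem' := Tr.mul
  inv_mem' := Tr.inv

instance : trB.Normal := ⟨fun _ h c => h.conj c⟩

theorem trB_pgroup : IsPGroup 2 trB := fun b => ⟨2, Subtype.ext (by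
  show (b : Bk) ^ 4 = 1
  rw [show (4 : ℕ) = 2 * 2 by rfl, pow_mul, pow_two, pow_two, eq_dg b.2.1, dg_mul, dg_mul, ← dg_one]
  refine congrArg dg (funext fun i => ?_)
  exact (ψ_zero _).mp (congrFun b.2.2 i))⟩

namespace Pre.Fr

variable {G : Type u} [Group G] [Finite G] {P : Pre G} (F : P.Fr)

/-- The setting, given the count. -/
def toSetting (hcard : Nat.card {g : Fin 3 → SL23 // (∀ i, ψ (g i) = 0) ∧
      ∃ s, Commute s P.z ∧ Commute s F.j ∧ ∀ v, s * F.q v * s⁻¹ = F.q (appB (dg g) v)} = 128)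
    (nwc : ∃ g, Commute (g * P.z * g⁻¹) P.z ∧ ∀ k : ZMod 3, g * P.z * g⁻¹ ≠ P.z ^ k.val) : Setting G where
  z := P.z
  j := F.j
  q := F.q
  z_cube := P.z_cube
  z_ne := P.z_ne
  j_sq := F.jj
  j_z := F.jz
  q_z := F.q_z
  q_mul := F.q_mul
  q_inj _ _ h := F.el_one h
  j_q := F.q_j
  decomp h hh := F.decomp hh
  blocks s sz sj := by
    obtain ⟨b, hb⟩ := F.exists_img sz
    exact ⟨b, F.exact_img sj sz hb⟩
  signs g hg := F.signs hg
  self x hx := by
    have hz : Commute x P.z := by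
      have h := F.q_swap (emb 0 (0, 1)) (emb 0 (1, 0))
      rw [om_emb_emb, show det2 ((1, 0) : V2) (0, 1) = 1 by decide, Pre.zz_one] at h
      have h' : P.z = F.q (emb 0 (1, 0)) * F.q (emb 0 (0, 1)) * (F.q (emb 0 (1, 0)))⁻¹ * (F.q (emb 0 (0, 1)))⁻¹ := by
        rw [h, mul_inv_cancel_right]
      rw [h']
      exact (((hx _).mul_right (hx _)).mul_right (hx _).inv_right).mul_right (hx _).inv_right
    obtain ⟨n, hn⟩ := P.self x hz fun y hy => by
      obtain ⟨k, v, rfl⟩ := F.el_surj hy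
      exact (P.zz_comm hz k).mul_right (hx v)
    exact ⟨n, hn.trans (P.zz_nat n)⟩
  card_P := hcard
  nwc := nwc

end Pre.Fr

theorem exists_setting {G : Type u} [Group G] [Finite G]
    (H : Subgroup G) (Q : Subgroup H) (hQF : Q = Cfsg.generalizedFittingSubgroup H) [hQn : Q.Normal]
    (hQex : Cfsg.IsExtraspecial 3 Q) (hQcard : Nat.card Q = 3 ^ 7)
    (hZZ : (Subgroup.center Q).map Q.subtype = Subgroup.center H)
    (P : Subgroup H) (hP : P = (Cfsg.pCore 2 (H ⧸ Q)).comap (QuotientGroup.mk' Q))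
    (hPcard : Nat.card (Cfsg.pCore 2 (H ⧸ Q)) = 2 ^ 7)
    (Q₁ Q₂ Q₃ : Subgroup H) (hle : Q₁ ≤ Q ∧ Q₂ ≤ Q ∧ Q₃ ≤ Q)
    (hZle : Subgroup.center H ≤ Q₁ ∧ Subgroup.center H ≤ Q₂ ∧ Subgroup.center H ≤ Q₃)
    (hex : Cfsg.IsExtraspecial 3 Q₁ ∧ Cfsg.IsExtraspecial 3 Q₂ ∧ Cfsg.IsExtraspecial 3 Q₃)
    (hcard : Nat.card Q₁ = 27 ∧ Nat.card Q₂ = 27 ∧ Nat.card Q₃ = 27)
    (hcomm : (∀ a ∈ Q₁, ∀ b ∈ Q₂, a * b = b * a) ∧ (∀ a ∈ Q₁, ∀ b ∈ Q₃, a * b = b * a) ∧
      (∀ a ∈ Q₂, ∀ b ∈ Q₃, a * b = b * a))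
    (hprod : Q₁ ⊔ Q₂ ⊔ Q₃ = Q)
    (hnorm : ∀ x ∈ P, ∀ Qᵢ ∈ [Q₁, Q₂, Q₃], ∀ q ∈ Qᵢ, x * q * x⁻¹ ∈ Qᵢ)
    (hexp4 : ∀ x ∈ P, ∀ Qᵢ ∈ [Q₁, Q₂, Q₃], ∀ q ∈ Qᵢ, x ^ 4 * q * (x ^ 4)⁻¹ * q⁻¹ ∈ Subgroup.center H)
    (hinv : ∀ x ∈ P, ∀ Qᵢ ∈ [Q₁, Q₂, Q₃], (∀ q ∈ Qᵢ, x ^ 2 * q * (x ^ 2)⁻¹ * q⁻¹ ∈ Subgroup.center H) →
      (∀ q ∈ Qᵢ, x * q * x⁻¹ * q⁻¹ ∈ Subgroup.center H) ∨ (∀ q ∈ Qᵢ, x * q * x⁻¹ * q ∈ Subgroup.center H))
    (hcent : ∀ Qᵢ ∈ [Q₁, Q₂, Q₃], ∃ x ∈ P, (∀ q ∈ Qᵢ, x * q * x⁻¹ * q ∈ Subgroup.center H) ∧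
      ∀ Qⱼ ∈ [Q₁, Q₂, Q₃], Qⱼ ≠ Qᵢ → ∀ q ∈ Qⱼ, x * q * x⁻¹ * q⁻¹ ∈ Subgroup.center H)
    (Z : Subgroup G) (hZ : Z = (Subgroup.center H).map H.subtype) (hHC : H = Subgroup.centralizer (Z : Set G))
    (S : Sylow 3 G) (hZS : Z ≤ S) (hnwc : ¬ Cfsg.IsWeaklyClosed Z S) :
    ∃ D : Setting G, Z = Subgroup.zpowers D.z ∧ D.Q ≤ (Cfsg.pCore 3 H).map H.subtype := by
  classical
  haveI : Fact (Nat.Prime 3) := ⟨Nat.prime_three⟩
  have hcZ : Nat.card (Subgroup.center H) = 3 := by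
    rw [← hZZ, Subgroup.card_map_of_injective Q.subtype_injective]; exact hQex.2
  haveI : Nontrivial (Subgroup.center H) := Finite.one_lt_card_iff_nontrivial.mp (by rw [hcZ]; norm_num)
  obtain ⟨⟨z0, hz0⟩, hz1⟩ := exists_ne (1 : Subgroup.center H)
  have z0ne : z0 ≠ 1 := fun e => hz1 (Subtype.ext e)
  have z03 : z0 ^ 3 = 1 := by
    have : (⟨z0, hz0⟩ : Subgroup.center H) ^ Nat.card (Subgroup.center H) = 1 := pow_card_eq_one'
    rw [hcZ] at this
    exact congrArg Subtype.val this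
  have cen : ∀ {c : H}, c ∈ Subgroup.center H → ∃ k : ℕ, c = z0 ^ k := fun {c} hc => by
    have : Subgroup.zpowers z0 = Subgroup.center H := Subgroup.eq_of_le_of_card_ge (Subgroup.zpowers_le.mpr hz0)
      (by rw [hcZ, Nat.card_zpowers, orderOf_eq_prime z03 z0ne])
    rw [← this] at hc
    exact (mem_powers_iff_mem_zpowers.mpr hc).imp fun n hn => hn.symm
  let K : Fin 3 → Subgroup H := ![Q₁, Q₂, Q₃]
  have Kmem : ∀ i, K i ∈ [Q₁, Q₂, Q₃] := fun i => by fin_cases i <;> simp [K]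
  have Kle : ∀ i, K i ≤ Q := fun i => by
    fin_cases i
    exacts [hle.1, hle.2.1, hle.2.2]
  have KZ : ∀ i, Subgroup.center H ≤ K i := fun i => by
    fin_cases i
    exacts [hZle.1, hZle.2.1, hZle.2.2]
  have Kex : ∀ i, Cfsg.IsExtraspecial 3 (K i) := fun i => by
    fin_cases i
    exacts [hex.1, hex.2.1, hex.2.2]
  have Kcard : ∀ i, Nat.card (K i) = 27 := fun i => by
    fin_cases i
    exacts [hcard.1, hcard.2.1, hcard.2.2]
  have cr : ∀ i l, i ≠ l → ∀ x ∈ K i, ∀ y ∈ K l, x * y = y * x := by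
    intro i l h x hx y hy
    fin_cases i <;> fin_cases l <;> first
      | exact absurd rfl h
      | exact hcomm.1 x hx y hy
      | exact hcomm.2.1 x hx y hy
      | exact hcomm.2.2 x hx y hy
      | exact (hcomm.1 y hy x hx).symm
      | exact (hcomm.2.1 y hy x hx).symm
      | exact (hcomm.2.2 y hy x hx).symm
  have Kcen : ∀ i, (Subgroup.center (K i)).map (K i).subtype = Subgroup.center H := fun i => by
    have hle' : Subgroup.center H ≤ (Subgroup.center (K i)).map (K i).subtype := fun c hc =>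
      ⟨⟨c, KZ i hc⟩, Subgroup.mem_center_iff.mpr fun y => Subtype.ext (Subgroup.mem_center_iff.mp hc y), rfl⟩
    refine (Subgroup.eq_of_le_of_card_ge hle' ?_).symm
    rw [Subgroup.card_map_of_injective (K i).subtype_injective, (Kex i).2, hcZ]
  have Kne : ∀ i l, i ≠ l → K i ≠ K l := fun i l h e => by
    obtain ⟨x, y, hxy⟩ : ∃ x y : K i, x * y ≠ y * x := by
      by_contra hh
      push Not at hh
      have ht : Subgroup.center (K i) = ⊤ :=
        eq_top_iff.mpr fun x _ => Subgroup.mem_center_iff.mpr fun y => hh y x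
      have := (Kex i).2
      rw [ht, Subgroup.card_top, Kcard i] at this
      norm_num at this
    exact hxy (Subtype.ext (cr i l h x x.2 y (e ▸ y.2)))
  let z : G := z0
  have hZz : Z = Subgroup.zpowers z := by
    rw [hZ, show Subgroup.center H = Subgroup.zpowers z0 from (Subgroup.eq_of_le_of_card_ge
      (Subgroup.zpowers_le.mpr hz0) (by rw [hcZ, Nat.card_zpowers, orderOf_eq_prime z03 z0ne])).symm,
      MonoidHom.map_zpowers]
    rfl
  have hHz : ∀ {g : G}, g ∈ H ↔ Commute g z := fun {g} => by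
    rw [hHC, hZz]
    refine ⟨fun h => (Subgroup.mem_centralizer_iff.mp h z (Subgroup.mem_zpowers z)).symm, fun h =>
      Subgroup.mem_centralizer_iff.mpr ?_⟩
    rintro _ ⟨n, rfl⟩
    exact (h.zpow_right n).eq.symm
  have cenG : ∀ {c : H}, c ∈ Subgroup.center H → ∃ k : ℕ, (c : G) = z ^ k := fun {c} hc => by
    obtain ⟨k, rfl⟩ := cen hc
    exact ⟨k, by simp [z]⟩
  have rel : ∀ {x q : H}, x * q * x⁻¹ * q⁻¹ ∈ Subgroup.center H →
      ∃ k : ℕ, (x : G) * q * (x : G)⁻¹ = z ^ k * q := fun {x q} h => by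
    obtain ⟨k, hk⟩ := cenG h
    refine ⟨k, ?_⟩
    simp only [Subgroup.coe_mul, InvMemClass.coe_inv] at hk
    exact mul_inv_eq_iff_eq_mul.mp hk
  have rel' : ∀ {x q : H}, x * q * x⁻¹ * q ∈ Subgroup.center H →
      ∃ k : ℕ, (x : G) * q * (x : G)⁻¹ = z ^ k * (q : G)⁻¹ := fun {x q} h => by
    obtain ⟨k, hk⟩ := cenG h
    refine ⟨k, ?_⟩
    simp only [Subgroup.coe_mul, InvMemClass.coe_inv] at hk
    exact eq_mul_inv_of_mul_eq hk
  have rel2 : ∀ {x q : H} {k : ℕ}, (x : G) * q * (x : G)⁻¹ = z ^ k * q →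
      x * q * x⁻¹ * q⁻¹ ∈ Subgroup.center H := fun {x q k} h => by
    have : x * q * x⁻¹ * q⁻¹ = z0 ^ k := Subtype.ext (by
      simp only [Subgroup.coe_mul, InvMemClass.coe_inv, SubgroupClass.coe_pow]
      exact mul_inv_eq_iff_eq_mul.mpr h)
    rw [this]
    exact pow_mem hz0 k
  have hQP : Q ≤ P := fun x hx => by
    rw [hP, Subgroup.mem_comap, QuotientGroup.mk'_apply, (QuotientGroup.eq_one_iff x).mpr hx]; exact one_mem _
  haveI hPn : P.Normal := by
    rw [hP]; exact Subgroup.Normal.comap inferInstance _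
  let Pd : Pre G :=
    { z := z
      K := fun i => (K i).map H.subtype
      Q := Q.map H.subtype
      P := (P.map H.subtype : Subgroup G)
      z_cube := by show (z0 : G) ^ 3 = 1; rw [← Subgroup.coe_pow, z03]; rfl
      z_ne := fun e => z0ne (Subtype.ext e)
      z_K := fun i => ⟨z0, KZ i hz0, rfl⟩
      K_le := fun i => Subgroup.map_mono (Kle i)
      Q_z := by rintro _ ⟨x, -, rfl⟩; exact hHz.mp x.2
      card_K := fun i => by rw [Subgroup.card_map_of_injective H.subtype_injective, Kcard]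
      card_Q := by rw [Subgroup.card_map_of_injective H.subtype_injective, hQcard]; norm_num
      K_comm := by
        rintro i _ ⟨x, hx, rfl⟩ _ ⟨y, hy, rfl⟩
        have h1 : (⟨x, hx⟩ : K i) * ⟨y, hy⟩ * (⟨x, hx⟩ : K i)⁻¹ * (⟨y, hy⟩ : K i)⁻¹ ∈ Subgroup.center (K i) := by
          rw [← (Kex i).1.2.2, commutator_def]
          exact Subgroup.commutator_mem_commutator (Subgroup.mem_top _) (Subgroup.mem_top _)
        have h2 : x * y * x⁻¹ * y⁻¹ ∈ Subgroup.center H := by rw [← Kcen i]; exact ⟨_, h1, rfl⟩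
        obtain ⟨k, hk⟩ := cenG h2
        exact ⟨k, by simpa using hk⟩
      K_noncomm := fun i => by
        obtain ⟨x, y, hxy⟩ : ∃ x y : K i, x * y ≠ y * x := by
          by_contra hh
          push Not at hh
          have ht : Subgroup.center (K i) = ⊤ :=
            eq_top_iff.mpr fun x _ => Subgroup.mem_center_iff.mpr fun y => hh y x
          have := (Kex i).2
          rw [ht, Subgroup.card_top, Kcard i] at this
          norm_num at this
        exact ⟨_, ⟨x, x.2, rfl⟩, _, ⟨y, y.2, rfl⟩, fun h => hxy (Subtype.ext (Subtype.ext h.eq))⟩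
      cross := by
        rintro i l h _ ⟨x, hx, rfl⟩ _ ⟨y, hy, rfl⟩
        exact congrArg Subtype.val (cr i l h x hx y hy)
      gen := by
        intro x hx
        have hle' : Q.map H.subtype ≤ Subgroup.centralizer ({x} : Set G) := by
          rw [← hprod, Subgroup.map_sup, Subgroup.map_sup]
          refine sup_le (sup_le ?_ ?_) ?_
          · exact fun y hy => Subgroup.mem_centralizer_singleton_iff.mpr (hx 0 y hy).eq.symm
          · exact fun y hy => Subgroup.mem_centralizer_singleton_iff.mpr (hx 1 y hy).eq.symm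
          · exact fun y hy => Subgroup.mem_centralizer_singleton_iff.mpr (hx 2 y hy).eq.symm
        exact fun y hy => (Subgroup.mem_centralizer_singleton_iff.mp (hle' hy)).symm
      self := fun x hxz hx => by
        have hxQ : (⟨x, hHz.mpr hxz⟩ : H) ∈ Q := by
          rw [hQF]
          refine CfsgLib.centralizer_generalizedFitting_le (Subgroup.mem_centralizer_iff.mpr fun y hy => Subtype.ext ?_)
          rw [← hQF] at hy
          exact (hx _ ⟨y, hy, rfl⟩).eq.symm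
        have hc : (⟨x, hHz.mpr hxz⟩ : H) ∈ Subgroup.center H := by
          rw [← hZZ]
          exact ⟨⟨_, hxQ⟩, Subgroup.mem_center_iff.mpr fun y => Subtype.ext (Subtype.ext
            (hx _ ⟨y, y.2, rfl⟩).eq.symm), rfl⟩
        exact cenG hc
      conj_Q := by
        rintro h hh _ ⟨x, hx, rfl⟩
        exact ⟨_, hQn.conj_mem x hx ⟨h, hHz.mpr hh⟩, rfl⟩
      P_z := by rintro _ ⟨x, -, rfl⟩; exact hHz.mp x.2
      P_mul := fun x hx y hy => mul_mem hx hy
      P_conj := by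
        rintro h hh _ ⟨x, hx, rfl⟩
        exact ⟨_, hPn.conj_mem x hx ⟨h, hHz.mpr hh⟩, rfl⟩
      P_K := by
        rintro _ ⟨x, hx, rfl⟩ i _ ⟨q, hq, rfl⟩
        exact ⟨_, hnorm x hx (K i) (Kmem i) q hq, rfl⟩
      P_four := by
        rintro _ ⟨x, hx, rfl⟩ i _ ⟨q, hq, rfl⟩
        have := rel (hexp4 x hx (K i) (Kmem i) q hq)
        simpa using this
      P_inv := by
        rintro _ ⟨x, hx, rfl⟩ i h2
        have h2' : ∀ q ∈ K i, x ^ 2 * q * (x ^ 2)⁻¹ * q⁻¹ ∈ Subgroup.center H := fun q hq => by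
          obtain ⟨k, hk⟩ := h2 q ⟨q, hq, rfl⟩
          exact rel2 (k := k) (by simpa using hk)
        rcases hinv x hx (K i) (Kmem i) h2' with h | h
        · exact Or.inl (by rintro _ ⟨q, hq, rfl⟩; exact rel (h q hq))
        · exact Or.inr (by rintro _ ⟨q, hq, rfl⟩; exact rel' (h q hq))
      P_sign := fun i => by
        obtain ⟨x, hx, h1, h2⟩ := hcent (K i) (Kmem i)
        refine ⟨_, ⟨x, hx, rfl⟩, ?_, ?_⟩
        · rintro _ ⟨q, hq, rfl⟩
          exact rel' (h1 q hq)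
        · rintro l hl _ ⟨q, hq, rfl⟩
          exact rel (h2 (K l) (Kmem l) (Kne l i hl) q hq) }
  obtain ⟨F⟩ := Pd.exists_fr
  -- the action
  choose act hact using fun h : H => F.exists_img (hHz.mp h.2)
  let β : H →* Bk :=
    { toFun := act
      map_one' := F.img_unique (hact 1) F.img_one
      map_mul' := fun a b => F.img_unique (hact (a * b)) (F.img_mul (hHz.mp a.2) (hact a) (hact b)) }
  have βker : β.ker = Q := Subgroup.ext fun h => by
    refine ⟨fun e => ?_, fun e => MonoidHom.mem_ker.mpr (F.img_unique (hact h) (F.img_Q ⟨h, e, rfl⟩))⟩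
    have e' : act h = 1 := e
    obtain ⟨y, hy, ey⟩ := F.img_ker (hHz.mp h.2) (e' ▸ hact h)
    rwa [← (Subtype.ext ey : y = h)]
  let βb : H ⧸ Q →* Bk := QuotientGroup.lift Q β βker.ge
  have βinj : Function.Injective βb := by
    rw [← MonoidHom.ker_eq_bot_iff, eq_bot_iff]
    intro x hx
    obtain ⟨h, rfl⟩ := QuotientGroup.mk'_surjective Q x
    refine (QuotientGroup.eq_one_iff h).mpr ?_
    rw [← βker]
    exact hx
  have core : ∀ h : H, (QuotientGroup.mk' Q h) ∈ Cfsg.pCore 2 (H ⧸ Q) ↔ Tr (act h) := fun h => by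
    refine ⟨fun hh => ?_, fun hh => ?_⟩
    · have hx : h ∈ P := by rw [hP]; exact hh
      obtain ⟨h1, h2⟩ := F.img_P ⟨h, hx, rfl⟩ (hact h)
      exact ⟨h1, funext h2⟩
    · have hle2 : trB.comap βb ≤ Cfsg.pCore 2 (H ⧸ Q) :=
        le_sSup ⟨Subgroup.Normal.comap inferInstance _, trB_pgroup.comap_of_injective βb βinj⟩
      exact hle2 hh
  have rep : ∀ x : H ⧸ Q, ∃ h : H, QuotientGroup.mk' Q h = x ∧ Commute (h : G) F.j := fun x => by
    obtain ⟨h, rfl⟩ := QuotientGroup.mk'_surjective Q x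
    obtain ⟨u, s, sz, sj, e⟩ := F.decomp (hHz.mp h.2)
    obtain ⟨y, hy, ey⟩ : F.q u ∈ Q.map H.subtype := F.q_Q u
    refine ⟨⟨s, hHz.mpr sz⟩, ?_, sj⟩
    rw [show h = y * ⟨s, hHz.mpr sz⟩ from Subtype.ext (by
      show (h : G) = (y : G) * s
      rw [show (y : G) = F.q u from ey]; exact e), map_mul,
      show QuotientGroup.mk' Q y = 1 from (QuotientGroup.eq_one_iff y).mpr hy, one_mul]
  choose r hr hrj using rep
  have hcard' : Nat.card {g : Fin 3 → SL23 // (∀ i, ψ (g i) = 0) ∧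
      ∃ s, Commute s z ∧ Commute s F.j ∧ ∀ v, s * F.q v * s⁻¹ = F.q (appB (dg g) v)} = 128 := by
    rw [show (128 : ℕ) = 2 ^ 7 by norm_num, ← hPcard]
    have m1 : ∀ x : Cfsg.pCore 2 (H ⧸ Q), Tr (act (r x)) := fun x => (core (r x)).mp (by rw [hr]; exact x.2)
    let φ : Cfsg.pCore 2 (H ⧸ Q) → {g : Fin 3 → SL23 // (∀ i, ψ (g i) = 0) ∧
        ∃ s, Commute s z ∧ Commute s F.j ∧ ∀ v, s * F.q v * s⁻¹ = F.q (appB (dg g) v)} := fun x =>
      ⟨(act (r x)).g, fun i => congrFun (m1 x).2 i, r x, hHz.mp (r x).2, hrj x, fun v => by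
        rw [← eq_dg (m1 x).1]; exact F.exact_img (hrj x) (hHz.mp (r x).2) (hact _) v⟩
    refine (Nat.card_congr (Equiv.ofBijective φ ⟨?_, ?_⟩)).symm
    · intro x y e
      have e' : (act (r x)).g = (act (r y)).g := congrArg Subtype.val e
      refine Subtype.ext ?_
      rw [← hr x, ← hr y]
      refine βinj ?_
      show act (r x) = act (r y)
      rw [eq_dg ((core (r x)).mp (by rw [hr]; exact x.2)).1, eq_dg ((core (r y)).mp (by rw [hr]; exact y.2)).1, e']
    · rintro ⟨g, hg, s, sz, sj, hs⟩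
      set h : H := ⟨s, hHz.mpr sz⟩
      have ha : act h = dg g := F.img_unique (hact h) fun v => ⟨0, by rw [Pre.zz_zero, one_mul]; exact hs v⟩
      have hmem : QuotientGroup.mk' Q h ∈ Cfsg.pCore 2 (H ⧸ Q) :=
        (core h).mpr (by rw [ha]; exact ⟨rfl, funext fun i => hg i⟩)
      refine ⟨⟨_, hmem⟩, Subtype.ext ?_⟩
      show (act (r _)).g = g
      have : act (r (QuotientGroup.mk' Q h)) = act h := congrArg βb (hr (QuotientGroup.mk' Q h))
      rw [this, ha]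
      rfl
  -- a moved conjugate commuting with the central element
  have hz3 : z ^ 3 = 1 := Pd.z_cube
  have nwc : ∃ g, Commute (g * z * g⁻¹) z ∧ ∀ k : ZMod 3, g * z * g⁻¹ ≠ z ^ k.val := by
    have norm_comm : ∀ y ∈ (S : Subgroup G), (∀ x ∈ Subgroup.zpowers z, y * x * y⁻¹ ∈ Subgroup.zpowers z) →
        Commute y z := fun y hy hn => by
      obtain ⟨k, hk⟩ := mem_powers_iff_mem_zpowers.mpr (hn z (Subgroup.mem_zpowers z))
      obtain ⟨m, hm⟩ := S.2 ⟨y, hy⟩
      have hm' : y ^ 3 ^ m = 1 := congrArg Subtype.val hm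
      have hk' : y * z * y⁻¹ = z ^ k := hk.symm
      have it : ∀ n : ℕ, y ^ n * z * (y ^ n)⁻¹ = z ^ (k ^ n) := by
        intro n
        induction n with
        | zero => simp
        | succ n ih =>
          calc y ^ (n + 1) * z * (y ^ (n + 1))⁻¹ = y * (y ^ n * z * (y ^ n)⁻¹) * y⁻¹ := by
                rw [pow_succ', mul_inv_rev]; simp only [mul_assoc]
            _ = (y * z * y⁻¹) ^ (k ^ n) := by rw [ih, conj_pow]
            _ = _ := by rw [hk', ← pow_mul, pow_succ']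
      have h0 := it (3 ^ m)
      rw [hm', one_mul, inv_one, mul_one] at h0
      have e1 : ((k ^ 3 ^ m : ℕ) : ZMod 3) = 1 := by
        refine Pd.zz_inj ?_
        rw [← Pd.zz_nat, Pd.zz_one]
        exact h0.symm
      rw [Nat.cast_pow, ZMod.pow_card_pow] at e1
      have : y * z * y⁻¹ = z := by
        rw [hk', show z ^ k = Pd.zz (k : ZMod 3) from Pd.zz_nat k, e1]
        exact Pd.zz_one
      exact mul_inv_eq_iff_eq_mul.mp this
    have out : ∀ g : G, (g * z * g⁻¹) ∉ Subgroup.zpowers z → ∀ k : ZMod 3, g * z * g⁻¹ ≠ z ^ k.val :=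
      fun g hg k e => hg (e ▸ pow_mem (Subgroup.mem_zpowers z) _)
    set A := Subgroup.normalizer (Subgroup.zpowers z : Set G) ⊓ (S : Subgroup G) with hA
    have hAz : ∀ y ∈ A, Commute y z := fun y hy =>
      norm_comm y hy.2 fun x hx => (Subgroup.mem_normalizer_iff.mp hy.1 x).mp hx
    by_cases hAS : (S : Subgroup G) ≤ A
    · by_contra hno
      push Not at hno
      refine hnwc ⟨hZS, fun g hg => ?_⟩
      rw [hZz, MonoidHom.map_zpowers] at hg ⊢
      have hm : g * z * g⁻¹ ∈ (S : Subgroup G) := hg (Subgroup.mem_zpowers _)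
      obtain ⟨k, hk⟩ := hno g (hAz _ (hAS hm))
      refine Subgroup.eq_of_le_of_card_ge (Subgroup.zpowers_le.mpr ?_) (le_of_eq ?_)
      · show g * z * g⁻¹ ∈ Subgroup.zpowers z
        rw [hk]; exact pow_mem (Subgroup.mem_zpowers z) _
      · rw [Nat.card_zpowers, Nat.card_zpowers]
        exact ((MulAut.conj g).orderOf_eq z).symm
    · have hlt : A.subgroupOf (S : Subgroup G) < ⊤ := lt_top_iff_ne_top.mpr fun e =>
        hAS (Subgroup.subgroupOf_eq_top.mp e)
      haveI := S.2.isNilpotent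
      obtain ⟨⟨y, hy⟩, hyn, hyA⟩ := SetLike.exists_of_lt (Group.normalizerCondition_of_isNilpotent _ hlt)
      have zS : z ∈ (S : Subgroup G) := hZS (hZz ▸ Subgroup.mem_zpowers z)
      have zA : z ∈ A := ⟨Subgroup.le_normalizer (Subgroup.mem_zpowers z), zS⟩
      have yzA : y * z * y⁻¹ ∈ A := (Subgroup.mem_normalizer_iff.mp hyn ⟨z, zS⟩).mp zA
      refine ⟨y, hAz _ yzA, out y fun hin => hyA ⟨Subgroup.mem_normalizer_iff.mpr ?_, hy⟩⟩
      intro x
      have heq : (Subgroup.zpowers z).map (MulAut.conj y).toMonoidHom = Subgroup.zpowers z := by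
        rw [MonoidHom.map_zpowers]
        refine Subgroup.eq_of_le_of_card_ge (Subgroup.zpowers_le.mpr hin) (le_of_eq ?_)
        rw [Nat.card_zpowers, Nat.card_zpowers]
        exact ((MulAut.conj y).orderOf_eq z).symm
      conv_rhs => rw [← heq]
      exact ⟨fun hx => ⟨x, hx, rfl⟩, fun ⟨w, hw, e⟩ => by
        have : w = x := (MulAut.conj y).injective e
        exact this ▸ hw⟩
  refine ⟨F.toSetting hcard' nwc, hZz, fun x hx => ?_⟩
  have hQ3 : Q ≤ Cfsg.pCore 3 H := le_sSup ⟨hQn, hQex.1.1⟩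
  obtain ⟨k, v, rfl⟩ := hx
  have hzQ : z ∈ Q.map H.subtype := ⟨z0, (Kle 0) (KZ 0 hz0), rfl⟩
  exact Subgroup.map_mono hQ3 (mul_mem (pow_mem hzQ _) (F.q_Q v))

end CfsgLib.Fi22Loc
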