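import Cfsg.Agent.Lib.Fi22Loc.Setting

/-!
Coordinates from three commuting extraspecial groups of order twenty-seven and a group of block actions with the
three sign changes.
-/

set_option autoImplicit false
set_option linter.unusedSectionVars false

namespace CfsgLib.Fi22Loc

open CfsgLib.U6Three (V2 SL23 det2 app2 app2_exists app2_add app2_one)

universe u

theorem sgn_four : ∀ g : SL23, g * g * (g * g) = 1 → ψ g = 0 := fun g h => (ψ_zero g).mpr h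

theorem emb_add (i : Fin 3) (a b : V2) : emb i (a + b) = emb i a + emb i b := by
  funext k
  by_cases h : k = i <;> simp [emb, h]

theorem emb_split (v : V6) : v = emb 0 (v 0) + emb 1 (v 1) + emb 2 (v 2) := by
  funext k
  fin_cases k <;> simp [emb]

theorem om_emb_emb (i : Fin 3) (a b : V2) : om (emb i a) (emb i b) = det2 a b := by
  rw [om_emb, emb_self]

theorem v2_fix : ∀ a : V2, -a = a → a = 0 := by decide +kernel

theorem two_ne : (2 : ZMod 3) ≠ 0 := by decide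

/-- The data before coordinates. -/
structure Pre (G : Type u) [Group G] where
  /-- the central element -/
  z : G
  /-- the three factors -/
  K : Fin 3 → Subgroup G
  /-- the core -/
  Q : Subgroup G
  /-- the block actions -/
  P : Set G
  z_cube : z ^ 3 = 1
  z_ne : z ≠ 1
  z_K : ∀ i, z ∈ K i
  K_le : ∀ i, K i ≤ Q
  Q_z : ∀ x ∈ Q, Commute x z
  card_K : ∀ i, Nat.card (K i) = 27
  card_Q : Nat.card Q = 2187
  K_comm : ∀ i, ∀ x ∈ K i, ∀ y ∈ K i, ∃ k : ℕ, x * y * x⁻¹ * y⁻¹ = z ^ k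
  K_noncomm : ∀ i, ∃ x ∈ K i, ∃ y ∈ K i, ¬ Commute x y
  cross : ∀ i l, i ≠ l → ∀ x ∈ K i, ∀ y ∈ K l, Commute x y
  gen : ∀ x, (∀ i, ∀ q ∈ K i, Commute x q) → ∀ y ∈ Q, Commute x y
  self : ∀ x, Commute x z → (∀ y ∈ Q, Commute x y) → ∃ k : ℕ, x = z ^ k
  conj_Q : ∀ h, Commute h z → ∀ x ∈ Q, h * x * h⁻¹ ∈ Q
  P_z : ∀ x ∈ P, Commute x z
  P_mul : ∀ x ∈ P, ∀ y ∈ P, x * y ∈ P
  P_conj : ∀ h, Commute h z → ∀ x ∈ P, h * x * h⁻¹ ∈ P
  P_K : ∀ x ∈ P, ∀ i, ∀ q ∈ K i, x * q * x⁻¹ ∈ K i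
  P_four : ∀ x ∈ P, ∀ i, ∀ q ∈ K i, ∃ k : ℕ, x ^ 4 * q * (x ^ 4)⁻¹ = z ^ k * q
  P_inv : ∀ x ∈ P, ∀ i, (∀ q ∈ K i, ∃ k : ℕ, x ^ 2 * q * (x ^ 2)⁻¹ = z ^ k * q) →
    (∀ q ∈ K i, ∃ k : ℕ, x * q * x⁻¹ = z ^ k * q) ∨ ∀ q ∈ K i, ∃ k : ℕ, x * q * x⁻¹ = z ^ k * q⁻¹
  P_sign : ∀ i, ∃ x ∈ P, (∀ q ∈ K i, ∃ k : ℕ, x * q * x⁻¹ = z ^ k * q⁻¹) ∧
    ∀ l, l ≠ i → ∀ q ∈ K l, ∃ k : ℕ, x * q * x⁻¹ = z ^ k * q

namespace Pre

variable {G : Type u} [Group G] (P : Pre G)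

/-- A power of the central element. -/
def zz (k : ZMod 3) : G := P.z ^ k.val

theorem zz_zero : P.zz 0 = 1 := by simp [zz]

theorem zz_one : P.zz 1 = P.z := by rw [zz, show (1 : ZMod 3).val = 1 from rfl, pow_one]

theorem zz_nat (n : ℕ) : P.z ^ n = P.zz n := by
  rw [zz, ZMod.val_natCast, ← pow_eq_pow_mod _ P.z_cube]

theorem zz_add (a b : ZMod 3) : P.zz (a + b) = P.zz a * P.zz b := by
  rw [zz, zz, zz, ← pow_add, ZMod.val_add, ← pow_eq_pow_mod _ P.z_cube]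

theorem zz_neg (a : ZMod 3) : P.zz (-a) = (P.zz a)⁻¹ :=
  eq_inv_of_mul_eq_one_left (by rw [← zz_add, neg_add_cancel, zz_zero])

theorem zz_inj {a b : ZMod 3} (h : P.zz a = P.zz b) : a = b := by
  haveI : Fact (Nat.Prime 3) := ⟨Nat.prime_three⟩
  have ho : orderOf P.z = 3 := orderOf_eq_prime P.z_cube P.z_ne
  exact ZMod.val_injective 3 (pow_injOn_Iio_orderOf (by rw [Set.mem_Iio, ho]; exact ZMod.val_lt a)
    (by rw [Set.mem_Iio, ho]; exact ZMod.val_lt b) h)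

theorem zz_comm {h : G} (hh : Commute h P.z) (k : ZMod 3) : Commute h (P.zz k) := hh.pow_right _

theorem zz_Q (k : ZMod 3) : P.zz k ∈ P.Q := pow_mem (P.K_le 0 (P.z_K 0)) _

theorem zz_K (k : ZMod 3) (i : Fin 3) : P.zz k ∈ P.K i := pow_mem (P.z_K i) _

theorem zz_swap {x : G} (hx : Commute x P.z) (k : ZMod 3) : x * P.zz k = P.zz k * x := (P.zz_comm hx k).eq

/-- The element moves the factor to itself, up to the centre and the given sign. -/
def Pos (x : G) (i : Fin 3) : Prop := ∀ q ∈ P.K i, ∃ k : ZMod 3, x * q * x⁻¹ = P.zz k * q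

/-- The element inverts the factor up to the centre. -/
def Neg (x : G) (i : Fin 3) : Prop := ∀ q ∈ P.K i, ∃ k : ZMod 3, x * q * x⁻¹ = P.zz k * q⁻¹

theorem K_z {i : Fin 3} {q : G} (hq : q ∈ P.K i) : Commute q P.z := P.Q_z q (P.K_le i hq)

variable {P}

theorem Neg.mul_pos {x y : G} {i : Fin 3} (hx : P.Neg x i) (hy : P.Pos y i) (xz : Commute x P.z) :
    P.Neg (x * y) i := fun q hq => by
  obtain ⟨k, hk⟩ := hy q hq
  obtain ⟨l, hl⟩ := hx q hq
  refine ⟨k + l, ?_⟩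
  calc x * y * q * (x * y)⁻¹ = x * (y * q * y⁻¹) * x⁻¹ := by group
    _ = x * P.zz k * q * x⁻¹ := by rw [hk]; group
    _ = P.zz k * (x * q * x⁻¹) := by rw [P.zz_swap xz]; group
    _ = _ := by rw [hl, P.zz_add]; group

theorem Pos.mul_neg {x y : G} {i : Fin 3} (hx : P.Pos x i) (hy : P.Neg y i) (xz : Commute x P.z) :
    P.Neg (x * y) i := fun q hq => by
  obtain ⟨k, hk⟩ := hy q hq
  obtain ⟨l, hl⟩ := hx q⁻¹ (inv_mem hq)
  refine ⟨k + l, ?_⟩
  calc x * y * q * (x * y)⁻¹ = x * (y * q * y⁻¹) * x⁻¹ := by group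
    _ = x * P.zz k * q⁻¹ * x⁻¹ := by rw [hk]; group
    _ = P.zz k * (x * q⁻¹ * x⁻¹) := by rw [P.zz_swap xz]; group
    _ = _ := by rw [hl, P.zz_add]; group

theorem Neg.mul_neg {x y : G} {i : Fin 3} (hx : P.Neg x i) (hy : P.Neg y i) (xz : Commute x P.z) :
    P.Pos (x * y) i := fun q hq => by
  obtain ⟨k, hk⟩ := hy q hq
  obtain ⟨l, hl⟩ := hx q⁻¹ (inv_mem hq)
  rw [inv_inv] at hl
  refine ⟨k + l, ?_⟩
  calc x * y * q * (x * y)⁻¹ = x * (y * q * y⁻¹) * x⁻¹ := by group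
    _ = x * P.zz k * q⁻¹ * x⁻¹ := by rw [hk]; group
    _ = P.zz k * (x * q⁻¹ * x⁻¹) := by rw [P.zz_swap xz]; group
    _ = _ := by rw [hl, P.zz_add]; group

variable (P) [Finite G]

/-- An element inverting all three factors. -/
theorem exists_neg : ∃ x ∈ P.P, ∀ i, P.Neg x i := by
  have conv : ∀ {x : G} {i : Fin 3}, (∀ q ∈ P.K i, ∃ k : ℕ, x * q * x⁻¹ = P.z ^ k * q⁻¹) → P.Neg x i :=
    fun {x i} h q hq => by obtain ⟨k, hk⟩ := h q hq; exact ⟨k, by rw [hk, P.zz_nat]⟩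
  have conv' : ∀ {x : G} {i : Fin 3}, (∀ q ∈ P.K i, ∃ k : ℕ, x * q * x⁻¹ = P.z ^ k * q) → P.Pos x i :=
    fun {x i} h q hq => by obtain ⟨k, hk⟩ := h q hq; exact ⟨k, by rw [hk, P.zz_nat]⟩
  obtain ⟨x, hx, nx, px⟩ := P.P_sign 0
  obtain ⟨y, hy, ny, py⟩ := P.P_sign 1
  obtain ⟨w, hw, nw, pw⟩ := P.P_sign 2
  have xy := (P.P_z x hx).mul_left (P.P_z y hy)
  refine ⟨x * y * w, P.P_mul _ (P.P_mul x hx y hy) w hw, fun i => ?_⟩
  fin_cases i
  · exact ((conv nx).mul_pos (conv' (py 0 (by decide))) (P.P_z x hx)).mul_pos (conv' (pw 0 (by decide))) xy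
  · exact ((conv' (px 1 (by decide))).mul_neg (conv ny) (P.P_z x hx)).mul_pos (conv' (pw 1 (by decide))) xy
  · refine Pos.mul_neg ?_ (conv nw) xy
    intro q hq
    obtain ⟨k, hk⟩ := conv' (py 2 (by decide)) q hq
    obtain ⟨l, hl⟩ := conv' (px 2 (by decide)) q hq
    refine ⟨k + l, ?_⟩
    calc x * y * q * (x * y)⁻¹ = x * (y * q * y⁻¹) * x⁻¹ := by group
      _ = x * P.zz k * q * x⁻¹ := by rw [hk]; group
      _ = P.zz k * (x * q * x⁻¹) := by rw [P.zz_swap (P.P_z x hx)]; group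
      _ = _ := by rw [hl, P.zz_add]; group

/-- An involution inverting all three factors. -/
theorem exists_j : ∃ j, j * j = 1 ∧ Commute j P.z ∧ ∀ i, P.Neg j i := by
  obtain ⟨x, hx, hn⟩ := P.exists_neg
  have xz := P.P_z x hx
  obtain ⟨k, m, hm, e⟩ := Nat.exists_eq_two_pow_mul_odd (orderOf_pos x).ne'
  have hpow : ∀ n : ℕ, ∀ i, (P.Pos (x ^ (2 * n)) i) ∧ P.Neg (x ^ (2 * n + 1)) i := by
    intro n i
    induction n with
    | zero =>
      refine ⟨fun q _ => ⟨0, by simp [zz_zero]⟩, ?_⟩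
      rw [mul_zero, zero_add, pow_one]; exact hn i
    | succ n ih =>
      have a : P.Pos (x ^ (2 * (n + 1))) i := by
        rw [show 2 * (n + 1) = 2 * n + 1 + 1 by ring, pow_succ]
        exact ih.2.mul_neg (hn i) (xz.pow_left _)
      exact ⟨a, by rw [pow_succ]; exact a.mul_neg (hn i) (xz.pow_left _)⟩
  obtain ⟨t, rfl⟩ := hm
  set y := x ^ (2 * t + 1)
  have yz : Commute y P.z := xz.pow_left _
  have yn : ∀ i, P.Neg y i := fun i => (hpow t i).2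
  have yk : (y * y) ^ (2 ^ k) = 1 := by
    calc (y * y) ^ (2 ^ k) = (x ^ (2 ^ k * (2 * t + 1))) ^ 2 := by
          rw [← pow_two, ← pow_mul, ← pow_mul, ← pow_mul]; congr 1; ring
      _ = 1 := by rw [← e, pow_orderOf_eq_one, one_pow]
  have yc : ∀ i, ∀ q ∈ P.K i, Commute (y * y) q := fun i q hq => by
    obtain ⟨c, hc⟩ := (yn i).mul_neg (yn i) yz q hq
    have it : ∀ n : ℕ, (y * y) ^ n * q * ((y * y) ^ n)⁻¹ = P.zz (n * c) * q := by
      intro n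
      induction n with
      | zero => simp [zz_zero]
      | succ n ih =>
        calc (y * y) ^ (n + 1) * q * ((y * y) ^ (n + 1))⁻¹ = y * y * ((y * y) ^ n * q * ((y * y) ^ n)⁻¹) * (y * y)⁻¹ := by
              rw [pow_succ', _root_.mul_inv_rev]; simp only [mul_assoc]
          _ = P.zz (n * c) * (y * y * q * (y * y)⁻¹) := by rw [ih, ← mul_assoc, P.zz_swap (yz.mul_left yz)]; group
          _ = _ := by rw [hc, ← mul_assoc, ← P.zz_add]; push_cast; ring_nf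
    have h0 := it (2 ^ k)
    rw [yk, one_mul, inv_one, mul_one] at h0
    have c0 : ((2 ^ k : ℕ) : ZMod 3) * c = 0 := P.zz_inj (by
      rw [P.zz_zero]; exact mul_right_cancel (h0.symm.trans (one_mul q).symm))
    have c1 : c = 0 := (mul_eq_zero.mp c0).resolve_left (by
      haveI : Fact (Nat.Prime 3) := ⟨Nat.prime_three⟩
      push_cast
      exact pow_ne_zero _ two_ne)
    rw [c1, P.zz_zero, one_mul] at hc
    exact mul_inv_eq_iff_eq_mul.mp hc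
  obtain ⟨n, hn'⟩ := P.self (y * y) (yz.mul_left yz) (P.gen _ yc)
  refine ⟨y, ?_, yz, yn⟩
  have h3 : (y * y) ^ 3 = 1 := by rw [hn', ← pow_mul, mul_comm, pow_mul, P.z_cube, one_pow]
  have := Nat.dvd_gcd (orderOf_dvd_of_pow_eq_one h3) (orderOf_dvd_of_pow_eq_one yk)
  rw [Nat.Coprime.pow_right k (by norm_num : Nat.Coprime 3 2), Nat.dvd_one, orderOf_eq_one_iff] at this
  exact this

end Pre

end CfsgLib.Fi22Loc
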